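import Cfsg.Agent.Lib.Walter.Statement
import Cfsg.Agent.Lib.Involution.TwoTimesAlt.OneClass
import Cfsg.Agent.Lib.Involution.TwoTimesPSL.Transfer
import Cfsg.Agent.Lib.Involution.ZStar.Main
import Cfsg.Agent.Lib.Involution.ZStar.Corollaries
import Cfsg.Agent.Lib.FTApps.RealGraph.Basic
import Cfsg.Agent.Lib.GWKlein.Reduction
import Cfsg.Agent.Lib.Fusion.PSolvable

/-!
# Elementary Sylow 2-subgroups of order 8: basic facts

Fusion in `N(S)`, the dichotomy for covering subgroups, Frattini arguments and the case of soluble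
centralisers of involutions (`tools/NOTES_WALTER.md`, section 1).
-/

set_option autoImplicit false
set_option linter.unusedSectionVars false
set_option linter.style.haveILetI false

universe u

namespace CfsgLib.Walter

open Subgroup
open scoped Pointwise
open CfsgLib.GWKlein (core oddPart core_le le_core odd_card_core core_conj_mem le_normalizer_core)

variable {G : Type u} [Group G]

/-- `x ↦ g x g⁻¹`. -/
abbrev conjMap (g : G) (H : Subgroup G) : Subgroup G := H.map (MulAut.conj g).toMonoidHom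

theorem mem_conjMap {g x : G} {H : Subgroup G} : x ∈ conjMap g H ↔ g⁻¹ * x * g ∈ H := by
  constructor
  · rintro ⟨y, hy, rfl⟩
    show g⁻¹ * (g * y * g⁻¹) * g ∈ H
    rwa [show g⁻¹ * (g * y * g⁻¹) * g = y by group]
  · intro h
    exact ⟨_, h, by show g * (g⁻¹ * x * g) * g⁻¹ = x; group⟩

theorem conj_mem_conjMap {g x : G} {H : Subgroup G} (h : x ∈ H) : g * x * g⁻¹ ∈ conjMap g H :=
  ⟨x, h, rfl⟩

theorem conjMap_conjMap_inv (g : G) (H : Subgroup G) : conjMap g⁻¹ (conjMap g H) = H := by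
  ext x
  rw [mem_conjMap, mem_conjMap, inv_inv, show g⁻¹ * (g * x * g⁻¹) * g = x by group]

theorem card_conjMap (g : G) (H : Subgroup G) : Nat.card (conjMap g H) = Nat.card H :=
  card_map_of_injective (f := (MulAut.conj g).toMonoidHom) (MulAut.conj g).injective

theorem conjMap_centralizer (g v : G) :
    conjMap g (centralizer ({v} : Set G)) = centralizer ({g * v * g⁻¹} : Set G) := by
  ext x
  rw [mem_conjMap, mem_centralizer_singleton_iff, mem_centralizer_singleton_iff]
  constructor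
  · intro h
    calc x * (g * v * g⁻¹) = g * (g⁻¹ * x * g * v) * g⁻¹ := by group
      _ = g * v * g⁻¹ * x := by rw [h]; group
  · intro h
    calc g⁻¹ * x * g * v = g⁻¹ * (x * (g * v * g⁻¹)) * g := by group
      _ = v * (g⁻¹ * x * g) := by rw [h]; group

section Core

variable [Finite G]

theorem conjMap_core (g : G) (H : Subgroup G) : conjMap g (core H) = core (conjMap g H) := by
  have key : ∀ (g : G) (H : Subgroup G), conjMap g (core H) ≤ core (conjMap g H) := by
    intro g H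
    refine le_core (map_mono (core_le H)) (by rw [card_conjMap]; exact odd_card_core H) ?_
    rintro _ ⟨h, hh, rfl⟩
    refine mem_normalizer_fintype fun _ hy => ?_
    obtain ⟨y, hy, rfl⟩ := hy
    show g * h * g⁻¹ * (g * y * g⁻¹) * (g * h * g⁻¹)⁻¹ ∈ conjMap g (core H)
    rw [show g * h * g⁻¹ * (g * y * g⁻¹) * (g * h * g⁻¹)⁻¹ = g * (h * y * h⁻¹) * g⁻¹ by group]
    exact conj_mem_conjMap (core_conj_mem H (le_normalizer hh) hy)
  refine le_antisymm (key g H) fun y hy => ?_
  have := key g⁻¹ (conjMap g H) (conj_mem_conjMap (g := g⁻¹) hy)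
  rw [conjMap_conjMap_inv, inv_inv] at this
  rw [mem_conjMap]
  exact this

/-- Conjugation permutes the odd parts. -/
theorem conjMap_oddPart (g v : G) : conjMap g (oddPart v) = oddPart (g * v * g⁻¹) := by
  rw [oddPart, conjMap_core, conjMap_centralizer]
  rfl

theorem mem_oddPart_conj {g v y : G} (hy : y ∈ oddPart v) :
    g * y * g⁻¹ ∈ oddPart (g * v * g⁻¹) := by
  rw [← conjMap_oddPart]
  exact conj_mem_conjMap hy

theorem odd_card_oddPart (v : G) : Odd (Nat.card (oddPart v)) := odd_card_core _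

theorem centralizer_le_normalizer_oddPart (v : G) :
    centralizer ({v} : Set G) ≤ normalizer (oddPart v : Set G) :=
  le_normalizer.trans (le_normalizer_core _)

theorem conj_mem_oddPart {v c y : G} (hc : c ∈ centralizer ({v} : Set G)) (hy : y ∈ oddPart v) :
    c * y * c⁻¹ ∈ oddPart v :=
  (mem_normalizer_iff.1 (centralizer_le_normalizer_oddPart v hc) y).1 hy

/-- A 2-element of a subgroup of odd order is trivial. -/
theorem eq_one_of_sq {K : Subgroup G} (hK : Odd (Nat.card K)) {x : G} (hx : x ∈ K)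
    (h2 : x * x = 1) : x = 1 :=
  orderOf_eq_one_iff.1 (Nat.eq_one_of_dvd_coprimes (Nat.coprime_two_right.2 hK)
    (Subgroup.orderOf_dvd_natCard _ hx) (orderOf_dvd_of_pow_eq_one (by rw [pow_two]; exact h2)))

/-- The order of a join with a normalised subgroup. -/
theorem card_sup_dvd {A B : Subgroup G} (h : B ≤ normalizer (A : Set G)) :
    Nat.card ↥(A ⊔ B) ∣ Nat.card A * Nat.card B := by
  have hle : A ⊔ B ≤ normalizer (A : Set G) := sup_le le_normalizer h
  haveI : (A.subgroupOf (A ⊔ B)).Normal := (normal_subgroupOf_iff_le_normalizer le_sup_left).2 hle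
  set K := A.subgroupOf (A ⊔ B)
  have h1 : Nat.card ↥(A ⊔ B) = Nat.card A * Nat.card (↥(A ⊔ B) ⧸ K) := by
    rw [← K.card_mul_index, index_eq_card, Nat.card_congr (subgroupOfEquivOfLe le_sup_left).toEquiv]
  let f : B →* ↥(A ⊔ B) ⧸ K := (QuotientGroup.mk' K).comp (inclusion le_sup_right)
  have hf : Function.Surjective f := by
    intro y
    obtain ⟨⟨x, hx⟩, rfl⟩ := QuotientGroup.mk'_surjective K y
    have hx' : x ∈ (↑A : Set G) * (↑B : Set G) := by
      rw [← coe_mul_of_right_le_normalizer_left A B h]; exact hx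
    obtain ⟨a, ha, b, hb, rfl⟩ := Set.mem_mul.1 hx'
    refine ⟨⟨b, hb⟩, (QuotientGroup.eq.2 ?_)⟩
    show (b : G)⁻¹ * (a * b) ∈ A
    rw [show b⁻¹ * (a * b) = b⁻¹ * a * b⁻¹⁻¹ by group]
    exact (mem_normalizer_iff.1 (inv_mem (h hb)) a).1 ha
  rw [h1]
  exact Nat.mul_dvd_mul_left _ (Subgroup.card_dvd_of_surjective f hf)

/-- The join of two odd subgroups, one normalising the other, is odd. -/
theorem odd_card_sup {A B : Subgroup G} (hA : Odd (Nat.card A)) (hB : Odd (Nat.card B))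
    (h : B ≤ normalizer (A : Set G)) : Odd (Nat.card ↥(A ⊔ B)) :=
  (hA.mul hB).of_dvd_nat (card_sup_dvd h)

/-- A subgroup without involutions has odd order. -/
theorem odd_card_of_forall {K : Subgroup G} (h : ∀ x ∈ K, x * x = 1 → x = 1) :
    Odd (Nat.card K) := by
  by_contra hK
  obtain ⟨a, ha, hi⟩ := FTApps.RealGraph.exists_invol_of_even hK
  exact hi.2 (h a ha hi.1)

/-- A group of order not divisible by 4 is solvable. -/
theorem isSolvable_of_not_four {X : Type*} [Group X] [Finite X] (h : ¬ 4 ∣ Nat.card X) :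
    Group.IsSolvable X := by
  rcases Nat.even_or_odd (Nat.card X) with ⟨m, hm⟩ | hodd
  · obtain ⟨ε, hε⟩ := Involution.TwoTimesPSL.exists_parity X (m := m)
      (Nat.not_even_iff_odd.1 fun ⟨j, hj⟩ => h ⟨j, by omega⟩) (by omega)
    haveI : Group.IsSolvable ε.ker := Cfsg.Agent.S0205.result <| odd_card_of_forall fun x hx hx2 => by
      by_contra hx1
      exact absurd ((MonoidHom.mem_ker.1 hx).symm.trans (hε x hx2 hx1)) (by decide)
    exact Group.isSolvable_of_ker_le_range ε.ker.subtype ε (range_subtype _).ge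
  · exact Cfsg.Agent.S0205.result hodd

/-- An odd subgroup normalised by a covering part of `C(t)` lies in `O(C(t))`. -/
theorem le_oddPart_of_covers {t : G} {H Y : Subgroup G} (hH : Covers t H)
    (hY : Y ≤ centralizer ({t} : Set G)) (hodd : Odd (Nat.card Y))
    (hn : H ⊓ centralizer ({t} : Set G) ≤ normalizer (Y : Set G)) : Y ≤ oddPart t := by
  have hYN : Y ≤ normalizer (oddPart t : Set G) := hY.trans (centralizer_le_normalizer_oddPart t)
  refine le_sup_right.trans (le_core (N := oddPart t ⊔ Y) (sup_le (core_le _) hY)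
    (odd_card_sup (odd_card_oddPart t) hodd hYN) ?_)
  intro c hc
  have hc' : c ∈ oddPart t ⊔ (H ⊓ centralizer ({t} : Set G)) := hH hc
  refine sup_le (le_sup_left.trans le_normalizer) ?_ hc'
  intro h hh
  refine mem_normalizer_fintype fun x hx => ?_
  have hle : (oddPart t ⊔ Y).map (MulAut.conj h).toMonoidHom ≤ oddPart t ⊔ Y := by
    rw [Subgroup.map_sup]
    refine sup_le_sup ?_ ?_
    · rintro _ ⟨y, hy, rfl⟩
      exact conj_mem_oddPart (mem_inf.1 hh).2 hy
    · rintro _ ⟨y, hy, rfl⟩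
      exact (mem_normalizer_iff.1 (hn hh) y).1 hy
  exact hle ⟨x, hx, rfl⟩

/-- Covering is inherited upwards. -/
theorem Covers.mono {t : G} {H K : Subgroup G} (h : Covers t H) (hle : H ≤ K) : Covers t K :=
  h.trans (sup_le_sup_left (inf_le_inf_right _ hle) _)

/-- `C(t)` is a product of `O(C(t))` and a covering part. -/
theorem Covers.exists_mul {t : G} {H : Subgroup G} (h : Covers t H) {c : G}
    (hc : c ∈ centralizer ({t} : Set G)) :
    ∃ o ∈ oddPart t, ∃ k ∈ H ⊓ centralizer ({t} : Set G), c = o * k := by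
  have hx : c ∈ (↑(oddPart t) : Set G) *
      (↑(H ⊓ centralizer ({t} : Set G)) : Set G) := by
    rw [← coe_mul_of_right_le_normalizer_left _ _
      (inf_le_right.trans (centralizer_le_normalizer_oddPart t))]
    exact h hc
  obtain ⟨o, ho, k, hk, rfl⟩ := Set.mem_mul.1 hx
  exact ⟨o, ho, k, hk, rfl⟩

/-- Covering criterion by elements. -/
theorem covers_of_forall {t : G} {H : Subgroup G}
    (h : ∀ c ∈ centralizer ({t} : Set G), ∃ o ∈ oddPart t, o⁻¹ * c ∈ H) : Covers t H := by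
  intro c hc
  obtain ⟨o, ho, hk⟩ := h c hc
  rw [show c = o * (o⁻¹ * c) by group]
  exact mul_mem_sup ho ⟨hk, Subgroup.mul_mem _ (Subgroup.inv_mem _ (core_le _ ho)) hc⟩

theorem Covers.conjMap {t : G} {H : Subgroup G} (h : Covers t H) {c : G}
    (hc : c ∈ centralizer ({t} : Set G)) : Covers t (Walter.conjMap c H) := by
  refine covers_of_forall fun x hx => ?_
  obtain ⟨o, ho, k, hk, he⟩ := h.exists_mul (mul_mem (mul_mem (inv_mem hc) hx) hc)
  refine ⟨c * o * c⁻¹, conj_mem_oddPart hc ho, ?_⟩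
  rw [mem_conjMap]
  have : c⁻¹ * ((c * o * c⁻¹)⁻¹ * x) * c = k := by
    calc c⁻¹ * ((c * o * c⁻¹)⁻¹ * x) * c = o⁻¹ * (c⁻¹ * x * c) := by group
      _ = k := by rw [he, inv_mul_cancel_left]
  rw [this]
  exact (mem_inf.1 hk).1

/-- Frattini: the normaliser of a `t`-invariant Sylow subgroup of an odd normal subgroup of a
covering subgroup covers. -/
theorem covers_normalizer {t : G} {H K : Subgroup G} (ht : orderOf t = 2) (hH : Covers t H)
    (hKH : K ≤ H) (hHK : H ≤ normalizer (K : Set G)) (htK : t ∈ normalizer (K : Set G))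
    (hKodd : Odd (Nat.card K)) {p : ℕ} [Fact p.Prime] (P : Sylow p K)
    (htP : t ∈ normalizer (((P : Subgroup K).map K.subtype : Subgroup G) : Set G)) :
    Covers t (H ⊓ normalizer (((P : Subgroup K).map K.subtype : Subgroup G) : Set G)) := by
  set PG := (P : Subgroup K).map K.subtype with hPG
  set C := centralizer ({t} : Set G) with hC
  have hKC : K ⊓ C ≤ oddPart t := by
    refine le_oddPart_of_covers hH inf_le_right (hKodd.of_dvd_nat (card_dvd_of_le inf_le_left)) ?_
    intro h hh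
    refine mem_normalizer_fintype fun y hy => ⟨(mem_normalizer_iff.1 (hHK (mem_inf.1 hh).1) y).1
      (mem_inf.1 hy).1, ?_⟩
    exact Subgroup.mul_mem _ (Subgroup.mul_mem _ (mem_inf.1 hh).2 (mem_inf.1 hy).2)
      (Subgroup.inv_mem _ (mem_inf.1 hh).2)
  refine covers_of_forall fun x hx => ?_
  obtain ⟨o, ho, k, hk, rfl⟩ := hH.exists_mul hx
  obtain ⟨hkH, hkC⟩ := mem_inf.1 hk
  have hle : conjMap k PG ≤ K := by
    rintro _ ⟨y, hy, rfl⟩
    exact (mem_normalizer_iff.1 (hHK hkH) y).1 (map_subtype_le _ hy)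
  obtain ⟨P', hP'⟩ := CfsgLib.Coprime.exists_sylow_map_eq (K := K) (H := conjMap k PG) (p := p) hle
    (by rw [card_conjMap, hPG, CfsgLib.Coprime.card_map_subtype, P.card_eq_multiplicity])
  have hcop : (Nat.card (zpowers t)).Coprime (Nat.card K) := by
    rw [Nat.card_zpowers, ht]; exact Nat.coprime_two_left.2 hKodd
  have hsolv : Group.IsSolvable (zpowers t) ∨ Group.IsSolvable K :=
    Or.inl (CfsgLib.Coprime.isSolvable_zpowers t)
  have htP' : zpowers t ≤ normalizer (((P' : Subgroup K).map K.subtype : Subgroup G) : Set G) := by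
    rw [zpowers_le, hP']
    refine mem_normalizer_fintype ?_
    rintro _ ⟨y, hy, rfl⟩
    refine ⟨t * y * t⁻¹, (mem_normalizer_iff.1 htP y).1 hy, ?_⟩
    show k * (t * y * t⁻¹) * k⁻¹ = t * (k * y * k⁻¹) * t⁻¹
    have e : k * t = t * k := mem_centralizer_singleton_iff.1 hkC
    calc k * (t * y * t⁻¹) * k⁻¹ = k * t * y * (k * t)⁻¹ := by group
      _ = t * (k * y * k⁻¹) * t⁻¹ := by rw [e]; group
  obtain ⟨c, hc, he⟩ := CfsgLib.Coprime.exists_centralizer_conj_sylow (zpowers_le.2 htK) hcop hsolv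
    P P' (zpowers_le.2 htP) htP'
  have hcC : (c : G) ∈ C := mem_centralizer_singleton_iff.2
    ((mem_centralizer_iff.1 hc t (mem_zpowers t)).symm)
  have hco : (c : G) ∈ oddPart t := hKC ⟨c.2, hcC⟩
  have hmap : conjMap (c : G) PG = conjMap k PG := by
    rw [← hP', ← he, CfsgLib.Coprime.map_smul_sylow]
  have hnk : (c : G)⁻¹ * k ∈ normalizer (PG : Set G) := mem_normalizer_fintype fun y hy => by
    have h1 : k * y * k⁻¹ ∈ conjMap (c : G) PG := hmap ▸ conj_mem_conjMap hy
    rw [mem_conjMap] at h1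
    rwa [show (c : G)⁻¹ * k * y * ((c : G)⁻¹ * k)⁻¹ = (c : G)⁻¹ * (k * y * k⁻¹) * c by group]
  have hoc : o * (c : G) ∈ oddPart t := mul_mem ho hco
  refine ⟨o * c, hoc, ?_⟩
  rw [show (o * (c : G))⁻¹ * (o * k) = (c : G)⁻¹ * k by group]
  exact ⟨Subgroup.mul_mem _ (Subgroup.inv_mem _ (hKH c.2)) hkH, hnk⟩

end Core

theorem conjMap_conjMap (g h : G) (H : Subgroup G) :
    conjMap g (conjMap h H) = conjMap (g * h) H := Coprime.conj_map_map H g h

theorem le_normalizer_centralizer (S : Subgroup G) [Finite G] :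
    normalizer (S : Set G) ≤ normalizer (centralizer (S : Set G) : Set G) := fun n hn => by
  refine mem_normalizer_fintype fun z hz => mem_centralizer_iff.2 fun s hs => ?_
  have h1 : n⁻¹ * s * n ∈ S := (mem_normalizer_iff''.1 hn s).1 hs
  calc s * (n * z * n⁻¹) = n * (n⁻¹ * s * n * z) * n⁻¹ := by group
    _ = n * (z * (n⁻¹ * s * n)) * n⁻¹ := by rw [mem_centralizer_iff.1 hz _ h1]
    _ = n * z * n⁻¹ * s := by group

variable [Finite G]

/-- A simple group with an elementary abelian Sylow 2-subgroup of order 8 has one class of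
involutions. -/
theorem setting_of_simple [IsSimpleGroup G] (P : Sylow 2 G)
    (h8 : Nat.card (P : Subgroup G) = 8) (he : Cfsg.IsElementaryAbelian 2 (P : Subgroup G)) :
    Setting G (P : Subgroup G) where
  sylow := ⟨P, rfl⟩
  card := h8
  elem := he
  oneClass u v hu hv := by
    refine isConj_iff.1 (Involution.TwoTimesAlt.one_class P h8
      (fun x hx => by rw [← pow_two]; exact he.2 x hx) (fun H hH hidx => ?_)
      (FTApps.RealGraph.invol_of_orderOf hu).1 (FTApps.RealGraph.invol_of_orderOf hu).2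
      (FTApps.RealGraph.invol_of_orderOf hv).1 (FTApps.RealGraph.invol_of_orderOf hv).2)
    rcases hH.eq_bot_or_eq_top with rfl | rfl
    · rw [index_bot] at hidx
      have := h8 ▸ card_subgroup_dvd_card (P : Subgroup G)
      rw [hidx] at this
      exact absurd (Nat.le_of_dvd two_pos this) (by omega)
    · rw [index_top] at hidx
      omega

namespace Setting

variable {S : Subgroup G} (hS : Setting G S)
include hS

theorem mul_self {u : G} (hu : u ∈ S) : u * u = 1 := by rw [← pow_two]; exact hS.elem.2 u hu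

theorem inv_eq {u : G} (hu : u ∈ S) : u⁻¹ = u := inv_eq_of_mul_eq_one_right (hS.mul_self hu)

theorem commute {u v : G} (hu : u ∈ S) (hv : v ∈ S) : Commute u v :=
  congrArg Subtype.val (hS.elem.1.is_comm.comm ⟨u, hu⟩ ⟨v, hv⟩)

theorem orderOf_two {u : G} (hu : u ∈ S) (hu1 : u ≠ 1) : orderOf u = 2 :=
  orderOf_eq_prime (hS.elem.2 u hu) hu1

theorem le_centralizer {u : G} (hu : u ∈ S) : S ≤ centralizer ({u} : Set G) := fun _ hv =>
  mem_centralizer_singleton_iff.2 (hS.commute hv hu).eq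

theorem le_centralizer_self : S ≤ centralizer (S : Set G) := fun _ hv =>
  mem_centralizer_iff.2 fun _ hu => (hS.commute hu hv).eq

theorem isPGroup : IsPGroup 2 S := by
  obtain ⟨P, rfl⟩ := hS.sylow
  exact P.2

theorem not_sixteen : ¬ 16 ∣ Nat.card G := by
  haveI : Fact (Nat.Prime 2) := ⟨Nat.prime_two⟩
  obtain ⟨P, rfl⟩ := hS.sylow
  intro h
  have := P.pow_dvd_card_of_pow_dvd_card (n := 4) h
  rw [hS.card] at this
  exact absurd (Nat.le_of_dvd (by omega) this) (by omega)

theorem not_isCyclic : ¬ IsCyclic S := by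
  intro h
  obtain ⟨g, hg⟩ := IsCyclic.exists_generator (α := S)
  have h1 := orderOf_eq_card_of_forall_mem_zpowers hg
  rw [hS.card] at h1
  have h2 : g ^ 2 = 1 := Subtype.ext (by push_cast; exact hS.elem.2 _ g.2)
  have := Nat.le_of_dvd two_pos (orderOf_dvd_of_pow_eq_one h2)
  omega

theorem card_ne_one : Nat.card {u : G // u ∈ S ∧ u ≠ 1} = 7 := by
  have h := Set.ncard_sdiff_singleton_of_mem (s := (S : Set G)) (one_mem S)
  rw [← Nat.card_coe_set_eq (S : Set G), SetLike.coe_sort_coe, hS.card] at h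
  rw [← Nat.card_coe_set_eq] at h
  exact h

/-- A 2-element normalising `S` lies in `S`. -/
theorem mem_of_two {x : G} (hx : x ∈ normalizer (S : Set G)) {k : ℕ} (hk : x ^ 2 ^ k = 1) :
    x ∈ S := by
  haveI : Fact (Nat.Prime 2) := ⟨Nat.prime_two⟩
  obtain ⟨i, -, hi⟩ := (Nat.dvd_prime_pow Nat.prime_two).1 (orderOf_dvd_of_pow_eq_one hk)
  have h2 : IsPGroup 2 (zpowers x) := IsPGroup.of_card (n := i) (by rw [Nat.card_zpowers, hi])
  obtain ⟨P, rfl⟩ := hS.sylow
  have h3 : IsPGroup 2 ↥(zpowers x ⊔ (P : Subgroup G)) :=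
    h2.to_sup_of_normal_right' P.2 (zpowers_le.2 hx)
  exact P.3 h3 le_sup_right ▸ mem_sup_left (mem_zpowers x)

theorem mem_centralizer_of_sq {g : G} (hg : g ∈ normalizer (S : Set G))
    (h2 : g * g ∈ centralizer (S : Set G)) : g ∈ centralizer (S : Set G) := by
  obtain ⟨m, k, ⟨j, rfl⟩, hk⟩ := FTApps.RealGraph.exists_two_part g
  have h1 := hS.le_centralizer_self (hS.mem_of_two (pow_mem hg _) hk)
  rw [pow_succ, pow_mul, pow_two] at h1
  exact (Subgroup.mul_mem_cancel_left _ (pow_mem h2 j)).1 h1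

/-- An element normalising `S` that fixes two involutions of it centralises it. -/
theorem centralizes_of_fixes_two {g u v : G} (hg : g ∈ normalizer (S : Set G)) (hu : u ∈ S)
    (hv : v ∈ S) (hu1 : u ≠ 1) (hv1 : v ≠ 1) (huv : u ≠ v) (hgu : Commute g u) (hgv : Commute g v) :
    g ∈ centralizer (S : Set G) := by
  set V : Subgroup G := S ⊓ centralizer ({g} : Set G) with hV
  have huV : u ∈ V := ⟨hu, mem_centralizer_singleton_iff.2 hgu.symm.eq⟩
  have hvV : v ∈ V := ⟨hv, mem_centralizer_singleton_iff.2 hgv.symm.eq⟩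
  refine hS.mem_centralizer_of_sq hg (mem_centralizer_iff.2 fun s hs => ?_)
  have hd : ∀ s ∈ S, s * (g * s * g⁻¹) ∈ V := by
    intro s hs
    by_cases hsV : s ∈ V
    · have : g * s * g⁻¹ = s := mul_inv_eq_iff_eq_mul.2
        (mem_centralizer_singleton_iff.1 (mem_inf.1 hsV).2).symm
      rw [this, hS.mul_self hs]
      exact one_mem V
    have hgs : g * s * g⁻¹ ∈ S := (mem_normalizer_iff.1 hg s).1 hs
    have h2 : V.relIndex S ≤ 2 := by
      have h1 := Coprime.card_mul_relIndex' (A := V) (inf_le_left : V ≤ S)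
      rw [hS.card] at h1
      have h4 : 3 ≤ Nat.card V := by
        have h := Set.ncard_le_ncard (s := ({1, u, v} : Set G)) (t := (V : Set G))
          (by rintro x (rfl | rfl | rfl); exacts [one_mem V, huV, hvV]) (Set.toFinite _)
        rwa [← Nat.card_coe_set_eq (V : Set G), SetLike.coe_sort_coe,
          show ({1, u, v} : Set G).ncard = 3 from
            Set.ncard_eq_three.2 ⟨_, _, _, hu1.symm, hv1.symm, huv, rfl⟩] at h
      have h5 := Nat.mul_le_mul_right (V.relIndex S) h4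
      omega
    have hne : g * s * g⁻¹ ∉ V := fun hm => hsV ⟨hs, mem_centralizer_singleton_iff.2 (by
      have h3 : g * (g * s * g⁻¹) * g⁻¹ = g * s * g⁻¹ := mul_inv_eq_iff_eq_mul.2
        (mem_centralizer_singleton_iff.1 (mem_inf.1 hm).2).symm
      have h4 : g * s * g⁻¹ = s := mul_left_cancel (mul_right_cancel h3)
      exact (mul_inv_eq_iff_eq_mul.1 h4).symm)⟩
    have hi : (V.subgroupOf S).index = 2 := by
      have h0 : (V.subgroupOf S).index ≠ 0 := index_ne_zero_of_finite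
      have h1 : (V.subgroupOf S).index ≠ 1 := fun h => hsV (by
        have := index_eq_one.1 h ▸ mem_top (⟨s, hs⟩ : S); exact this)
      change V.relIndex S ≤ 2 at h2
      rw [relIndex] at h2
      omega
    exact (mul_mem_iff_of_index_two hi (a := ⟨s, hs⟩) (b := ⟨_, hgs⟩)).2
      (iff_of_false hsV hne)
  have h1 := hd s hs
  have hgs : g * s * g⁻¹ ∈ S := (mem_normalizer_iff.1 hg s).1 hs
  have h2 : g * (s * (g * s * g⁻¹)) = s * (g * s * g⁻¹) * g :=
    (mem_centralizer_singleton_iff.1 (mem_inf.1 h1).2).symm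
  have h3 : g * (g * s * g⁻¹) * g⁻¹ = (g * s * g⁻¹)⁻¹ * (s * (g * s * g⁻¹)) := by
    calc g * (g * s * g⁻¹) * g⁻¹ = (g * s * g⁻¹)⁻¹ * (g * (s * (g * s * g⁻¹)) * g⁻¹) := by group
      _ = _ := by rw [h2, mul_inv_cancel_right]
  rw [show (g * s * g⁻¹)⁻¹ * (s * (g * s * g⁻¹)) = s by
    rw [← mul_assoc, (hS.commute (inv_mem hgs) hs).eq, mul_assoc, inv_mul_cancel, mul_one]] at h3
  calc s * (g * g) = g * (g * s * g⁻¹) * g⁻¹ * (g * g) := by rw [h3]
    _ = g * g * s := by group

/-- The subgroups of order 8 of an overgroup of `S` are conjugates of `S` in it. -/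
theorem exists_conj_eq {H X : Subgroup G} (hSH : S ≤ H) (hXH : X ≤ H) (hX : Nat.card X = 8) :
    ∃ y ∈ H, conjMap y S = X := by
  haveI : Fact (Nat.Prime 2) := ⟨Nat.prime_two⟩
  have hc := hS.card
  obtain ⟨P, rfl⟩ := hS.sylow
  have hP' : Nat.card ((P.subtype hSH : Sylow 2 H) : Subgroup H) = 8 := by
    rw [Sylow.coe_subtype, Nat.card_congr (subgroupOfEquivOfLe hSH).toEquiv, hc]
  have hX' : Nat.card (X.subgroupOf H) = 8 := by
    rw [Nat.card_congr (subgroupOfEquivOfLe hXH).toEquiv, hX]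
  obtain ⟨Q, hQ⟩ := (IsPGroup.of_card (p := 2) (n := 3) hX').exists_le_sylow
  have hQX : X.subgroupOf H = (Q : Subgroup H) := eq_of_le_of_card_ge hQ (by
    rw [hX', Sylow.card_eq_multiplicity Q, ← Sylow.card_eq_multiplicity (P.subtype hSH), hP'])
  obtain ⟨y, hy⟩ := MulAction.exists_smul_eq H (P.subtype hSH) Q
  refine ⟨y, y.2, eq_of_le_of_card_ge ?_ (by rw [card_conjMap, hc, hX])⟩
  rintro _ ⟨z, hz, rfl⟩
  have h1 : (y * (⟨z, hSH hz⟩ : H) * y⁻¹) ∈ (Q : Subgroup H) := by
    rw [← hy]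
    exact ⟨⟨z, hSH hz⟩, hz, rfl⟩
  rw [← hQX] at h1
  exact h1

/-- Every involution of an overgroup of `S` is conjugate into `S` in it. -/
theorem exists_conj_mem {H : Subgroup G} (hSH : S ≤ H) {x : G} (hxH : x ∈ H) (hx : x * x = 1) :
    ∃ y ∈ H, y * x * y⁻¹ ∈ S := by
  obtain ⟨P, rfl⟩ := hS.sylow
  obtain ⟨y, hy⟩ := Involution.TwoTimesAlt.exists_two_group_conj_mem (P.subtype hSH)
    (x := (⟨x, hxH⟩ : H)) (Subtype.ext hx)
  exact ⟨y, y.2, hy⟩

/-- Fusion in an overgroup of `S` is controlled by the normaliser of `S` in it. -/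
theorem exists_normalizer_conj_in {H : Subgroup G} (hSH : S ≤ H) {u v h : G} (hu : u ∈ S)
    (hv : v ∈ S) (hh : h ∈ H) (he : h * u * h⁻¹ = v) :
    ∃ n ∈ H, n ∈ normalizer (S : Set G) ∧ n * u * n⁻¹ = v := by
  have h1 : conjMap h S ≤ H ⊓ centralizer ({v} : Set G) := by
    rintro _ ⟨z, hz, rfl⟩
    refine ⟨Subgroup.mul_mem _ (Subgroup.mul_mem _ hh (hSH hz)) (Subgroup.inv_mem _ hh),
      mem_centralizer_singleton_iff.2 ?_⟩
    rw [← he]
    exact ((hS.commute hz hu).map (MulAut.conj h)).eq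
  obtain ⟨y, hy, hye⟩ := hS.exists_conj_eq (le_inf hSH (hS.le_centralizer hv)) h1
    (by rw [card_conjMap, hS.card])
  refine ⟨y⁻¹ * h, mul_mem (inv_mem (mem_inf.1 hy).1) hh, mem_normalizer_iff_map_conj_eq.2 ?_, ?_⟩
  · show conjMap (y⁻¹ * h) S = S
    rw [← conjMap_conjMap, ← hye, conjMap_conjMap_inv]
  · calc y⁻¹ * h * u * (y⁻¹ * h)⁻¹ = y⁻¹ * (h * u * h⁻¹) * y := by group
      _ = y⁻¹ * (v * y) := by rw [he, mul_assoc]
      _ = v := by rw [← mem_centralizer_singleton_iff.1 (mem_inf.1 hy).2, inv_mul_cancel_left]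

/-- The normaliser of `S` is transitive on its involutions. -/
theorem exists_normalizer_conj {u v : G} (hu : u ∈ S) (hv : v ∈ S) (hu1 : u ≠ 1) (hv1 : v ≠ 1) :
    ∃ n ∈ normalizer (S : Set G), n * u * n⁻¹ = v := by
  obtain ⟨g, hg⟩ := hS.oneClass u v (hS.orderOf_two hu hu1) (hS.orderOf_two hv hv1)
  obtain ⟨n, -, hn, he⟩ := hS.exists_normalizer_conj_in le_top hu hv (mem_top g) hg
  exact ⟨n, hn, he⟩

/-- The stabiliser of an involution of `S` has index 7 in the normaliser of `S`. -/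
theorem relIndex_eq_seven {t : G} (ht : t ∈ S) (ht1 : t ≠ 1) :
    (normalizer (S : Set G) ⊓ centralizer ({t} : Set G)).relIndex (normalizer (S : Set G)) = 7 := by
  set N := normalizer (S : Set G)
  set M := N ⊓ centralizer ({t} : Set G)
  let f : N → {u : G // u ∈ S ∧ u ≠ 1} := fun n =>
    ⟨n * t * n⁻¹, (mem_normalizer_iff.1 n.2 t).1 ht, fun h => ht1 (conj_eq_one_iff.1 h)⟩
  have key : ∀ n m : N, n⁻¹ * m ∈ M.subgroupOf N ↔ f n = f m := by
    intro n m
    rw [mem_subgroupOf, mem_inf, mem_centralizer_singleton_iff]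
    refine ⟨fun h => Subtype.ext ?_, fun h => ⟨(n⁻¹ * m).2, ?_⟩⟩
    · show (n : G) * t * (n : G)⁻¹ = m * t * (m : G)⁻¹
      have h2 := h.2
      push_cast at h2
      calc (n : G) * t * (n : G)⁻¹ = n * (t * ((n : G)⁻¹ * m)) * (m : G)⁻¹ := by group
        _ = m * t * (m : G)⁻¹ := by rw [← h2]; group
    · have h2 : (n : G) * t * (n : G)⁻¹ = m * t * (m : G)⁻¹ := congrArg Subtype.val h
      push_cast
      calc (n : G)⁻¹ * m * t = (n : G)⁻¹ * (m * t * (m : G)⁻¹) * m := by group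
        _ = t * ((n : G)⁻¹ * m) := by rw [← h2]; group
  rw [relIndex, index_eq_card]
  refine (Nat.card_congr (Equiv.ofBijective (Quotient.lift f fun n m h =>
    (key n m).1 (QuotientGroup.leftRel_apply.1 h)) ⟨?_, ?_⟩)).trans hS.card_ne_one
  · intro a b h
    induction a using Quotient.inductionOn
    induction b using Quotient.inductionOn
    exact Quotient.sound (QuotientGroup.leftRel_apply.2 ((key _ _).2 h))
  · rintro ⟨v, hv, hv1⟩
    obtain ⟨n, hn, he⟩ := hS.exists_normalizer_conj ht hv ht1 hv1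
    exact ⟨Quotient.mk _ ⟨n, hn⟩, Subtype.ext he⟩

theorem mem_centralizer_of_oddPart {t : G} (ht : t ∈ S) {y : G} (hy : y ∈ oddPart t)
    (hn : y ∈ normalizer (S : Set G)) : y ∈ centralizer (S : Set G) := by
  refine mem_centralizer_iff.2 fun s hs => ?_
  have h1 : y * s * y⁻¹ * s⁻¹ ∈ S := mul_mem ((mem_normalizer_iff.1 hn s).1 hs) (inv_mem hs)
  have h2 : y * s * y⁻¹ * s⁻¹ ∈ oddPart t := by
    rw [show y * s * y⁻¹ * s⁻¹ = y * (s * y⁻¹ * s⁻¹) by group]
    exact mul_mem hy (conj_mem_oddPart (hS.le_centralizer ht hs) (inv_mem hy))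
  have h3 := eq_one_of_sq (odd_card_oddPart t) h2 (hS.mul_self h1)
  exact (mul_inv_eq_iff_eq_mul.1 (mul_inv_eq_one.1 h3)).symm

theorem le_normalizer_oddPart {t : G} (ht : t ∈ S) :
    S ≤ normalizer (oddPart t : Set G) :=
  (hS.le_centralizer ht).trans (centralizer_le_normalizer_oddPart t)

/-- A covering subgroup containing `S` induces all of `N(S) ∩ C(t)` on `S`. -/
theorem exists_mem_normalizer {t : G} (ht : t ∈ S) {H : Subgroup G} (hSH : S ≤ H)
    (hc : Covers t H) {n : G} (hn : n ∈ normalizer (S : Set G))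
    (hnt : n ∈ centralizer ({t} : Set G)) :
    ∃ k ∈ H ⊓ normalizer (S : Set G), k ∈ centralizer ({t} : Set G) ∧
      k⁻¹ * n ∈ oddPart t ∧ k⁻¹ * n ∈ centralizer (S : Set G) := by
  obtain ⟨o, ho, k, hk, rfl⟩ := hc.exists_mul hnt
  obtain ⟨hkH, hkC⟩ := mem_inf.1 hk
  have hX : conjMap k S ≤ (oddPart t ⊔ S) ⊓ H := by
    rintro _ ⟨z, hz, rfl⟩
    refine ⟨?_, Subgroup.mul_mem _ (Subgroup.mul_mem _ hkH (hSH hz)) (Subgroup.inv_mem _ hkH)⟩
    show k * z * k⁻¹ ∈ oddPart t ⊔ S
    rw [show k * z * k⁻¹ = o⁻¹ * (o * k * z * (o * k)⁻¹) * o by group]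
    exact mul_mem (mul_mem (mem_sup_left (inv_mem ho))
      (mem_sup_right ((mem_normalizer_iff.1 hn z).1 hz))) (mem_sup_left ho)
  obtain ⟨y, hy, hye⟩ := hS.exists_conj_eq (le_inf le_sup_right hSH) hX
    (by rw [card_conjMap, hS.card])
  obtain ⟨o', ho', s, hs, rfl⟩ :=
    (Coprime.mem_sup_of_le_normalizer (hS.le_normalizer_oddPart ht)).1 (mem_inf.1 hy).1
  have ho'H : o' ∈ H := by simpa using mul_mem (mem_inf.1 hy).2 (inv_mem (hSH hs))
  have hN : o'⁻¹ * k ∈ normalizer (S : Set G) := by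
    refine mem_normalizer_iff_map_conj_eq.2 ?_
    show conjMap (o'⁻¹ * k) S = S
    rw [← conjMap_conjMap, ← hye, ← conjMap_conjMap o' s, conjMap_conjMap_inv]
    exact Coprime.conj_map_eq_self_of_mem_normalizer (le_normalizer hs)
  have hO : (o'⁻¹ * k)⁻¹ * (o * k) ∈ oddPart t := by
    rw [show (o'⁻¹ * k)⁻¹ * (o * k) = k⁻¹ * (o' * o) * k⁻¹⁻¹ by group]
    exact conj_mem_oddPart (inv_mem hkC) (mul_mem ho' ho)
  exact ⟨o'⁻¹ * k, ⟨Subgroup.mul_mem _ (Subgroup.inv_mem _ ho'H) hkH, hN⟩,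
    mul_mem (inv_mem (GWKlein.oddPart_le t ho')) hkC, hO,
    hS.mem_centralizer_of_oddPart ht hO (mul_mem (inv_mem hN) hn)⟩

/-- A covering subgroup can be conjugated inside `C(t)` to contain `S`. -/
theorem exists_conj_covering {t : G} (ht : t ∈ S) {H : Subgroup G} (hc : Covers t H) :
    ∃ c ∈ centralizer ({t} : Set G), S ≤ conjMap c H := by
  haveI : Fact (Nat.Prime 2) := ⟨Nat.prime_two⟩
  set C := centralizer ({t} : Set G)
  have h8 : 8 ∣ Nat.card ↥(H ⊓ C) := by
    have h1 : 8 ∣ Nat.card C := hS.card ▸ card_dvd_of_le (hS.le_centralizer ht)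
    have h2 := (h1.trans (card_dvd_of_le hc)).trans (card_sup_dvd (inf_le_right.trans
      (centralizer_le_normalizer_oddPart t)))
    exact (Nat.Coprime.dvd_mul_left ((Nat.coprime_two_left.2 (odd_card_oddPart t)).pow_left 3)).1 h2
  obtain ⟨X, hX⟩ := Sylow.exists_subgroup_card_pow_prime 2 (n := 3) (G := ↥(H ⊓ C)) h8
  have hXle : X.map (H ⊓ C).subtype ≤ H ⊓ C := map_subtype_le _
  obtain ⟨y, hy, hye⟩ := hS.exists_conj_eq (hS.le_centralizer ht) (hXle.trans inf_le_right)
    (by rw [Coprime.card_map_subtype, hX]; norm_num)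
  refine ⟨y⁻¹, inv_mem hy, ?_⟩
  rw [← conjMap_conjMap_inv y S]
  exact map_mono (hye.le.trans (hXle.trans inf_le_left))

/-- The dichotomy for an overgroup of `S` that covers. -/
theorem oneClass_or_centralMod {t : G} (ht : t ∈ S) (ht1 : t ≠ 1) {H : Subgroup G} (hSH : S ≤ H)
    (hc : Covers t H) : OneClassIn H ∨ CentralMod t H := by
  haveI : Fact (Nat.Prime 2) := ⟨Nat.prime_two⟩
  set N := normalizer (S : Set G) with hN
  by_cases hfix : ∀ n ∈ H ⊓ N, n * t * n⁻¹ = t
  · right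
    have htwo : orderOf (⟨t, hSH ht⟩ : H) = 2 := by
      rw [Subgroup.orderOf_mk]; exact hS.orderOf_two ht ht1
    have hiso : Cfsg.IsIsolatedInvolution (⟨t, hSH ht⟩ : H) := by
      obtain ⟨P, hP⟩ := hS.sylow
      refine (Involution.Isolated.isolated_iff_sylow (P := P.subtype (hP.trans_le hSH)) htwo
        (show t ∈ (P : Subgroup G) from hP ▸ ht)).2 fun g hg => Subtype.ext ?_
      have hgS : (g : G) * t * (g : G)⁻¹ ∈ S := hP ▸ hg
      obtain ⟨n, hn, hnN, hne⟩ := hS.exists_normalizer_conj_in hSH ht hgS g.2 rfl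
      exact hne.symm.trans (hfix n ⟨hn, hnN⟩)
    intro h hh
    obtain ⟨o, ho, c, hcc, he⟩ := Involution.ZStar.exists_oddCore_mul_centralizer
      (Involution.ZStar.starCentral ↥H) hiso (⟨h, hh⟩ : H)
    rw [show h = (o : G) * c from congrArg Subtype.val he]
    exact mul_mem_sup ⟨o, ho, rfl⟩ ⟨c.2, mem_centralizer_singleton_iff.2
      (congrArg Subtype.val (mem_centralizer_singleton_iff.1 hcc))⟩
  · left
    push Not at hfix
    obtain ⟨n, hn, hnt⟩ := hfix
    set K := H ⊓ N with hK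
    set M := centralizer (S : Set G) ⊔ K with hM
    have hKn : K ≤ normalizer (centralizer (S : Set G) : Set G) :=
      inf_le_right.trans (le_normalizer_centralizer S)
    have hMN : M ≤ N := by
      refine sup_le (fun c hc => mem_normalizer_fintype fun s hs => ?_) inf_le_right
      rwa [← mem_centralizer_iff.1 hc s hs, mul_inv_cancel_right]
    have hstab : N ⊓ centralizer ({t} : Set G) ≤ M := by
      intro m hm
      obtain ⟨k, hk, -, -, hkm⟩ := hS.exists_mem_normalizer ht hSH hc hm.1 hm.2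
      rw [show m = k * (k⁻¹ * m) by group]
      exact mul_mem (mem_sup_right hk) (mem_sup_left hkm)
    have hone : (N ⊓ centralizer ({t} : Set G)).relIndex M ≠ 1 := fun h => hnt (by
      rw [mul_inv_eq_iff_eq_mul]
      exact mem_centralizer_singleton_iff.1 (mem_inf.1 (relIndex_eq_one.1 h (mem_sup_right hn))).2)
    have htop : N ≤ M := by
      have h1 := relIndex_mul_relIndex _ _ _ hstab hMN
      rw [hS.relIndex_eq_seven ht ht1] at h1
      rcases (Nat.dvd_prime (by norm_num : Nat.Prime 7)).1 (Dvd.intro _ h1) with h | h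
      · exact absurd h hone
      · rw [h] at h1
        exact relIndex_eq_one.1 (Nat.eq_of_mul_eq_mul_left (by norm_num) (h1.trans (mul_one 7).symm))
    have htrans : ∀ v ∈ S, v ≠ 1 → ∃ k ∈ H, k * t * k⁻¹ = v := by
      intro v hv hv1
      obtain ⟨m, hm, rfl⟩ := hS.exists_normalizer_conj ht hv ht1 hv1
      obtain ⟨c, hcS, k, hk, rfl⟩ := (Coprime.mem_sup_of_le_normalizer hKn).1 (htop hm)
      refine ⟨k, (mem_inf.1 hk).1, ?_⟩
      have hkt : k * t * k⁻¹ ∈ S := (mem_normalizer_iff.1 (mem_inf.1 hk).2 t).1 ht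
      rw [show c * k * t * (c * k)⁻¹ = c * (k * t * k⁻¹) * c⁻¹ by group,
        ← mem_centralizer_iff.1 hcS _ hkt, mul_inv_cancel_right]
    intro u hu v hv hu2 hv2
    have key : ∀ u ∈ H, orderOf u = 2 → ∃ h ∈ H, h * t * h⁻¹ = u := by
      intro u hu hu2
      obtain ⟨hsq, hne⟩ := FTApps.RealGraph.invol_of_orderOf hu2
      obtain ⟨y, hy, hyu⟩ := hS.exists_conj_mem hSH hu hsq
      obtain ⟨k, hk, hke⟩ := htrans _ hyu (fun h => hne (conj_eq_one_iff.1 h))
      refine ⟨y⁻¹ * k, mul_mem (inv_mem hy) hk, ?_⟩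
      rw [show y⁻¹ * k * t * (y⁻¹ * k)⁻¹ = y⁻¹ * (k * t * k⁻¹) * y by group, hke]
      group
    obtain ⟨a, ha, rfl⟩ := key u hu hu2
    obtain ⟨b, hb, rfl⟩ := key v hv hv2
    exact ⟨b * a⁻¹, mul_mem hb (inv_mem ha), by group⟩

theorem dichotomyHyp : DichotomyHyp S := by
  intro t ht ht1 H _ _ hc
  obtain ⟨c, hcC, hSH⟩ := hS.exists_conj_covering ht hc
  have hct : c⁻¹ * t * c = t := by
    rw [mul_assoc, ← mem_centralizer_singleton_iff.1 hcC, inv_mul_cancel_left]
  rcases hS.oneClass_or_centralMod ht ht1 hSH (hc.conjMap hcC) with h | h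
  · left
    intro u hu v hv hu2 hv2
    obtain ⟨x, hx, he⟩ := h _ (conj_mem_conjMap hu) _ (conj_mem_conjMap hv)
      (by rw [Involution.Dihedral.orderOf_conj, hu2]) (by rw [Involution.Dihedral.orderOf_conj, hv2])
    refine ⟨c⁻¹ * x * c, mem_conjMap.1 hx, ?_⟩
    calc c⁻¹ * x * c * u * (c⁻¹ * x * c)⁻¹ = c⁻¹ * (x * (c * u * c⁻¹) * x⁻¹) * c := by group
      _ = v := by rw [he]; group
  · right
    have h1 : conjMap c⁻¹ (conjMap c H) ≤
        conjMap c⁻¹ (core (conjMap c H) ⊔ (conjMap c H ⊓ centralizer ({t} : Set G))) := map_mono h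
    rw [conjMap_conjMap_inv] at h1
    refine h1.trans ?_
    rw [Walter.conjMap, Subgroup.map_sup]
    refine sup_le_sup ?_ ?_
    · rw [← Walter.conjMap, conjMap_core, conjMap_conjMap_inv]
    · refine le_inf ((map_mono inf_le_left).trans (conjMap_conjMap_inv c H).le) ?_
      refine (map_mono inf_le_right).trans (le_of_eq ?_)
      rw [← Walter.conjMap, conjMap_centralizer, inv_inv, hct]

/-- A proper quotient of `C(t)` modulo a normal subgroup not inside `O(C(t))⟨t⟩` is solvable. -/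
theorem isSolvable_quotient {t : G} (ht : t ∈ S) (ht1 : t ≠ 1) {Q : Type*} [Group Q]
    (f : ↥(centralizer ({t} : Set G)) →* Q) (hf : Function.Surjective f)
    (hker : ¬ f.ker.map (centralizer ({t} : Set G)).subtype ≤ oddPart t ⊔ zpowers t) :
    Group.IsSolvable Q := by
  haveI : Finite Q := Finite.of_surjective f hf
  have htC : t ∈ (centralizer ({t} : Set G)) := mem_centralizer_singleton_iff.2 rfl
  set q := f ⟨t, htC⟩ with hq
  haveI : (zpowers q).Normal := by
    refine ⟨fun x hx y => ?_⟩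
    obtain ⟨c, rfl⟩ := hf y
    obtain ⟨i, rfl⟩ := mem_zpowers_iff.1 hx
    have hcq : Commute (f c) q := (show Commute c ⟨t, htC⟩ from
      Subtype.ext (mem_centralizer_singleton_iff.1 c.2)).map f
    rw [(hcq.zpow_right i).eq, mul_inv_cancel_right]
    exact zpow_mem (mem_zpowers q) i
  set g := (QuotientGroup.mk' (zpowers q)).comp f with hg
  have hgs : Function.Surjective g := (QuotientGroup.mk'_surjective _).comp hf
  haveI : Group.IsSolvable (zpowers q) := Coprime.isSolvable_zpowers q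
  suffices h4 : 4 ∣ Nat.card g.ker by
    haveI : Group.IsSolvable (Q ⧸ zpowers q) := isSolvable_of_not_four fun h => hS.not_sixteen (by
      have h2 := g.ker.card_mul_index
      rw [index_ker, MonoidHom.range_eq_top.2 hgs, card_top] at h2
      exact ((mul_dvd_mul h4 h).trans (dvd_of_eq h2)).trans (card_subgroup_dvd_card (centralizer ({t} : Set G))))
    exact Group.isSolvable_of_ker_le_range (zpowers q).subtype (QuotientGroup.mk' (zpowers q))
      (by rw [QuotientGroup.ker_mk', range_subtype])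
  by_contra h4
  have htker : (⟨t, htC⟩ : (centralizer ({t} : Set G))) ∈ g.ker := MonoidHom.mem_ker.2
    ((QuotientGroup.eq_one_iff _).2 (mem_zpowers q))
  have h2 : 2 ∣ Nat.card g.ker := by
    have := Subgroup.orderOf_dvd_natCard _ htker
    rwa [Subgroup.orderOf_mk, hS.orderOf_two ht ht1] at this
  obtain ⟨m, hm⟩ := h2
  obtain ⟨ε, hε⟩ := Involution.TwoTimesPSL.exists_parity g.ker (m := m)
    (Nat.not_even_iff_odd.1 fun ⟨j, hj⟩ => h4 ⟨j, by omega⟩) hm
  set M := (ε.ker.map g.ker.subtype).map (centralizer ({t} : Set G)).subtype with hM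
  have hMO : M ≤ oddPart t := by
    have hodd : Odd (Nat.card ε.ker) := odd_card_of_forall fun x hx hx2 => by
      by_contra hx1
      exact absurd ((MonoidHom.mem_ker.1 hx).symm.trans (hε x hx2 hx1)) (by decide)
    refine le_core (map_subtype_le _) (by
      rwa [hM, Coprime.card_map_subtype, Coprime.card_map_subtype]) ?_
    intro c hc
    refine mem_normalizer_fintype fun x hx => ?_
    obtain ⟨_, ⟨z, hz, rfl⟩, rfl⟩ := hx
    set z' : g.ker := ⟨⟨c, hc⟩ * z * ⟨c, hc⟩⁻¹, (MonoidHom.normal_ker g).conj_mem _ z.2 _⟩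
    refine ⟨_, ⟨z', ?_, rfl⟩, rfl⟩
    obtain ⟨j, hj⟩ : Odd (orderOf z') := by
      have : orderOf z' = orderOf z := by
        rw [← Subgroup.orderOf_coe, ← Subgroup.orderOf_coe z]
        exact Involution.Dihedral.orderOf_conj _ _
      rw [this]
      exact GWKlein.odd_orderOf hodd hz
    have h1 := congrArg ε (pow_orderOf_eq_one z')
    rw [hj, map_pow, pow_succ, pow_mul, map_one] at h1
    exact MonoidHom.mem_ker.2 (by rwa [Int.units_sq, one_pow, one_mul] at h1)
  apply hker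
  rintro _ ⟨x, hx, rfl⟩
  have hxg : x ∈ g.ker := MonoidHom.mem_ker.2 (by
    rw [hg, MonoidHom.comp_apply, MonoidHom.mem_ker.1 hx, map_one])
  rcases Int.units_eq_one_or (ε ⟨x, hxg⟩) with h | h
  · exact mem_sup_left (hMO ⟨_, ⟨_, h, rfl⟩, rfl⟩)
  · have ht2 : (⟨⟨t, htC⟩, htker⟩ : g.ker) * ⟨⟨t, htC⟩, htker⟩ = 1 :=
      Subtype.ext (Subtype.ext (hS.mul_self ht))
    have h1 : ε (⟨x, hxg⟩ * ⟨⟨t, htC⟩, htker⟩) = 1 := by
      rw [map_mul, h, hε _ ht2 (fun e => ht1 (congrArg (fun z : g.ker => ((z : (centralizer ({t} : Set G))) : G)) e))]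
      rfl
    have hxt : (x : G) * t ∈ M := ⟨_, ⟨_, h1, rfl⟩, rfl⟩
    have h3 := mul_mem (mem_sup_left (T := zpowers t) (hMO hxt))
      (mem_sup_right (S := oddPart t) (mem_zpowers t))
    rwa [mul_assoc, hS.mul_self ht, mul_one] at h3

section Solvable

variable {t : G}

/-- All centralisers of involutions are solvable if one is. -/
theorem isSolvable_centralizer (ht : orderOf t = 2)
    (hsol : Group.IsSolvable ↥(centralizer ({t} : Set G))) {u : G} (hu : orderOf u = 2) :
    Group.IsSolvable ↥(centralizer ({u} : Set G)) := by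
  obtain ⟨g, rfl⟩ := hS.oneClass t u ht hu
  haveI := hsol
  rw [← conjMap_centralizer]
  exact Group.isSolvable_of_surjective ((MulAut.conj g).toMonoidHom.subgroupMap_surjective _)

/-- An odd subgroup of `O(C(t)) S` lies in `O(C(t))`. -/
theorem le_oddPart_of_le_sup (ht : t ∈ S) {Y : Subgroup G} (hY : Y ≤ oddPart t ⊔ S)
    (hodd : Odd (Nat.card Y)) : Y ≤ oddPart t := by
  have hYN : Y ≤ normalizer (oddPart t : Set G) :=
    hY.trans (sup_le le_normalizer (hS.le_normalizer_oddPart ht))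
  have h1 := (card_dvd_of_le (sup_le le_sup_left hY : oddPart t ⊔ Y ≤ oddPart t ⊔ S)).trans
    (card_sup_dvd (hS.le_normalizer_oddPart ht))
  rw [hS.card] at h1
  have h2 := ((Nat.coprime_two_right.2 (odd_card_sup (odd_card_oddPart t) hodd hYN)).pow_right
    3).dvd_of_dvd_mul_right h1
  have h3 : oddPart t = oddPart t ⊔ Y :=
    eq_of_le_of_card_ge le_sup_left (Nat.le_of_dvd Nat.card_pos h2)
  rw [h3]
  exact le_sup_right

/-- Modulo the core, a solvable `C(t)` has `S` as self-centralising 2-core. -/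
theorem mem_sup_of_solvable (ht : t ∈ S) (hsol : Group.IsSolvable ↥(centralizer ({t} : Set G))) :
    (∀ c ∈ centralizer ({t} : Set G), ∀ s ∈ S, c * s * c⁻¹ ∈ oddPart t ⊔ S) ∧
      ∀ x ∈ centralizer ({t} : Set G), (∀ s ∈ S, x * s * x⁻¹ * s⁻¹ ∈ oddPart t) →
        x ∈ oddPart t ⊔ S := by
  haveI : Fact (Nat.Prime 2) := ⟨Nat.prime_two⟩
  obtain ⟨P, hP⟩ := hS.sylow
  set C := centralizer ({t} : Set G)
  haveI := hsol
  set U := Cfsg.pPrimeCore 2 ↥C
  set π := QuotientGroup.mk' U
  have hSC : (P : Subgroup G) ≤ C := hP.trans_le (hS.le_centralizer ht)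
  set T := (P.subtype hSC).mapSurjective (QuotientGroup.mk'_surjective U) with hT
  haveI : Group.IsSolvable (↥C ⧸ U) :=
    Group.isSolvable_of_surjective (QuotientGroup.mk'_surjective U)
  have hc := Fusion.PSolvable.centralizer_pCore_le (p := 2) (G := ↥C ⧸ U)
    Fusion.PSolvable.psolvable_of_solvable GWKlein.pPrimeCore_quotient
  have hle : Cfsg.pCore 2 (↥C ⧸ U) ≤ (T : Subgroup _) := Solvable.Cores.pCore_le_sylow T
  have hcomm : (T : Subgroup _) ≤ centralizer ((T : Subgroup (↥C ⧸ U)) : Set (↥C ⧸ U)) := by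
    rw [hT, Sylow.coe_mapSurjective]
    rintro _ ⟨a, ha, rfl⟩
    refine mem_centralizer_iff.2 ?_
    rintro _ ⟨b, hb, rfl⟩
    rw [← map_mul, ← map_mul]
    exact congrArg π (Subtype.ext (hS.commute (hP ▸ hb) (hP ▸ ha)).eq)
  have hTeq : (T : Subgroup _) = Cfsg.pCore 2 (↥C ⧸ U) :=
    le_antisymm ((hcomm.trans (centralizer_le hle)).trans hc) hle
  have hback : ∀ x : C, π x ∈ (T : Subgroup _) → (x : G) ∈ oddPart t ⊔ S := by
    intro x hx
    rw [hT, Sylow.coe_mapSurjective] at hx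
    obtain ⟨s, hs, he⟩ := hx
    have hu : (x * s⁻¹ : C) ∈ U := by
      rw [← QuotientGroup.eq_one_iff]
      show π (x * s⁻¹) = 1
      rw [map_mul, map_inv, he, mul_inv_cancel]
    rw [show (x : G) = ((x * s⁻¹ : C) : G) * s by push_cast; group]
    exact mul_mem_sup ⟨_, hu, rfl⟩ (hP ▸ hs)
  have hmem : ∀ s, ∀ hs : s ∈ S, π ⟨s, hS.le_centralizer ht hs⟩ ∈ (T : Subgroup _) := by
    intro s hs
    rw [hT, Sylow.coe_mapSurjective]
    exact ⟨_, (show s ∈ (P : Subgroup G) from hP ▸ hs), rfl⟩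
  constructor
  · intro c hc s hs
    refine hback (⟨c, hc⟩ * ⟨s, hS.le_centralizer ht hs⟩ * ⟨c, hc⟩⁻¹) ?_
    have h1 := hmem s hs
    rw [hTeq] at h1 ⊢
    rw [map_mul, map_mul, map_inv]
    exact (Solvable.Cores.pCore_normal 2).conj_mem _ h1 _
  · intro x hx h
    refine hback ⟨x, hx⟩ ?_
    rw [hTeq]
    refine hc (mem_centralizer_iff.2 fun y hy => ?_)
    have hy' := hle hy
    rw [hT, Sylow.coe_mapSurjective] at hy'
    obtain ⟨s, hs, rfl⟩ := hy'
    have h1 : (⟨x, hx⟩ * s * ⟨x, hx⟩⁻¹ * s⁻¹ : C) ∈ U := by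
      obtain ⟨z, hz, he⟩ := h s (hP ▸ hs)
      have he' : z = ⟨x, hx⟩ * s * ⟨x, hx⟩⁻¹ * s⁻¹ := Subtype.ext he
      exact he' ▸ hz
    rw [← QuotientGroup.eq_one_iff] at h1
    change π _ = 1 at h1
    rw [map_mul, map_mul, map_mul, map_inv, map_inv, mul_inv_eq_one, mul_inv_eq_iff_eq_mul] at h1
    exact h1.symm

/-- If `C(t)` is solvable, its odd `S`-invariant subgroups lie in the core. -/
theorem le_oddPart_of_solvable (ht : t ∈ S)
    (hsol : Group.IsSolvable ↥(centralizer ({t} : Set G))) {Y : Subgroup G}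
    (hY : Y ≤ centralizer ({t} : Set G)) (hodd : Odd (Nat.card Y))
    (hn : S ≤ normalizer (Y : Set G)) : Y ≤ oddPart t := by
  obtain ⟨hnorm, hcent⟩ := hS.mem_sup_of_solvable ht hsol
  refine hS.le_oddPart_of_le_sup ht (fun y hy => hcent y (hY hy) fun s hs => ?_) hodd
  refine hS.le_oddPart_of_le_sup ht (Y := Y ⊓ (oddPart t ⊔ S)) inf_le_right
    (hodd.of_dvd_nat (card_dvd_of_le inf_le_left)) ⟨?_, ?_⟩
  · rw [show y * s * y⁻¹ * s⁻¹ = y * (s * y⁻¹ * s⁻¹) by group]
    exact mul_mem hy ((mem_normalizer_iff.1 (hn hs) _).1 (inv_mem hy))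
  · exact mul_mem (hnorm y (hY hy) s hs) (mem_sup_right (inv_mem hs))

/-- If `C(t)` is solvable, `N(S)` covers. -/
theorem covers_of_solvable (ht : t ∈ S)
    (hsol : Group.IsSolvable ↥(centralizer ({t} : Set G))) :
    Covers t (normalizer (S : Set G)) := by
  refine covers_of_forall fun c hc => ?_
  have hX : conjMap c S ≤ oddPart t ⊔ S := by
    rintro _ ⟨s, hs, rfl⟩
    exact (hS.mem_sup_of_solvable ht hsol).1 c hc s hs
  obtain ⟨y, hy, hye⟩ := hS.exists_conj_eq le_sup_right hX (by rw [card_conjMap, hS.card])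
  obtain ⟨o, ho, s, hs, rfl⟩ :=
    (Coprime.mem_sup_of_le_normalizer (hS.le_normalizer_oddPart ht)).1 hy
  refine ⟨o, ho, mem_normalizer_iff_map_conj_eq.2 ?_⟩
  show conjMap (o⁻¹ * c) S = S
  rw [← conjMap_conjMap, ← hye, ← conjMap_conjMap o s, conjMap_conjMap_inv]
  exact Coprime.conj_map_eq_self_of_mem_normalizer (le_normalizer hs)

/-- Balance when the centralisers are solvable. -/
theorem balanced_of_solvable (ht : t ∈ S) (ht1 : t ≠ 1)
    (hsol : Group.IsSolvable ↥(centralizer ({t} : Set G))) : Balanced S := by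
  intro a ha _ b hb hb1
  refine hS.le_oddPart_of_solvable hb
    (hS.isSolvable_centralizer (hS.orderOf_two ht ht1) hsol (hS.orderOf_two hb hb1)) inf_le_right
    ((odd_card_oddPart a).of_dvd_nat (card_dvd_of_le inf_le_left)) fun s hs =>
      mem_normalizer_fintype fun y hy => ?_
  exact ⟨conj_mem_oddPart (hS.le_centralizer ha hs) (mem_inf.1 hy).1,
    Subgroup.mul_mem _ (Subgroup.mul_mem _ (hS.le_centralizer hb hs) (mem_inf.1 hy).2)
      (Subgroup.inv_mem _ (hS.le_centralizer hb hs))⟩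

omit hS in
theorem _root_.CfsgLib.Walter.not_dvd_relIndex_map {W : Subgroup G} {p : ℕ} [Fact p.Prime]
    (P : Sylow p W) : ¬ p ∣ ((P : Subgroup W).map W.subtype).relIndex W := by
  rw [relIndex, show ((P : Subgroup W).map W.subtype).subgroupOf W = (P : Subgroup W) from
    comap_map_eq_self_of_injective W.subtype_injective _]
  exact P.not_dvd_index

/-- An invariant Sylow subgroup of `O(C(t))` exists. -/
theorem exists_partSylow (ht : t ∈ S) {p : ℕ} (hp : p.Prime) : ∃ R, PartSylow S p t R := by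
  haveI := Fact.mk hp
  obtain ⟨P, hP⟩ := Coprime.exists_invariant_sylow (hS.le_normalizer_oddPart ht)
    (by rw [hS.card]; exact (Nat.coprime_two_left.2 (odd_card_oddPart t)).pow_left 3)
    (Or.inr (Cfsg.Agent.S0205.result (odd_card_oddPart t))) p
  exact ⟨_, map_subtype_le _, P.2.map _, not_dvd_relIndex_map P, hP⟩

/-- Balance at each prime when the centralisers are solvable. -/
theorem balanceAt_of_solvable (ht : t ∈ S) (ht1 : t ≠ 1)
    (hsol : Group.IsSolvable ↥(centralizer ({t} : Set G))) {p : ℕ} (hp : p.Prime) :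
    BalanceAt S p t := by
  obtain ⟨R, hR⟩ := hS.exists_partSylow ht hp
  exact ⟨R, hR, fun u hu hu1 => (inf_le_inf_right _ hR.le).trans
    (hS.balanced_of_solvable ht ht1 hsol t ht ht1 u hu hu1)⟩

/-- The completion is invariant under the normaliser of `S`. -/
theorem normalizer_le_of_completion {W : Subgroup G} (hW : Completion S W) :
    normalizer (S : Set G) ≤ normalizer (W : Set G) := by
  intro n hn
  haveI := hS.elem.1
  have h : W ≤ W.comap (MulAut.conj n).toMonoidHom := by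
    conv_lhs => rw [← Coprime.iSup_centralizer_singleton hS.not_isCyclic hW.inv
      (by rw [hS.card]; exact (Nat.coprime_two_left.2 hW.odd).pow_left 3)]
    refine iSup₂_le fun a ha y hy => ?_
    rw [hW.fixed a ha.1 ha.2] at hy
    show n * y * n⁻¹ ∈ W
    have h1 := mem_oddPart_conj (g := n) hy
    rw [← hW.fixed _ ((mem_normalizer_iff.1 hn a).1 ha.1) (fun e => ha.2 (conj_eq_one_iff.1 e))]
      at h1
    exact (mem_inf.1 h1).1
  exact mem_normalizer_fintype fun y hy => h hy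

/-- Covering by a Sylow normaliser of the completion when `C(t)` is solvable. -/
theorem coverAt_of_solvable (ht : t ∈ S) (ht1 : t ≠ 1)
    (hsol : Group.IsSolvable ↥(centralizer ({t} : Set G))) {W : Subgroup G} (hW : Completion S W)
    {p : ℕ} (hp : p.Prime) : CoverAt W p t := by
  haveI := Fact.mk hp
  have hcop : (Nat.card S).Coprime (Nat.card W) := by
    rw [hS.card]; exact (Nat.coprime_two_left.2 hW.odd).pow_left 3
  have hsolv : Group.IsSolvable S ∨ Group.IsSolvable W :=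
    Or.inr (Cfsg.Agent.S0205.result hW.odd)
  obtain ⟨P, hP⟩ := Coprime.exists_invariant_sylow hW.inv hcop hsolv p
  set Q := (P : Subgroup W).map W.subtype with hQ
  refine ⟨Q, map_subtype_le _, P.2.map _, not_dvd_relIndex_map P, covers_of_forall fun x hx => ?_⟩
  obtain ⟨o, ho, n, hn, rfl⟩ := (hS.covers_of_solvable ht hsol).exists_mul hx
  obtain ⟨hnS, hnC⟩ := mem_inf.1 hn
  have hle : conjMap n Q ≤ W := by
    rintro _ ⟨z, hz, rfl⟩
    exact (mem_normalizer_iff.1 (hS.normalizer_le_of_completion hW hnS) z).1 (map_subtype_le _ hz)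
  obtain ⟨P', hP'⟩ := Coprime.exists_sylow_map_eq (K := W) (H := conjMap n Q) (p := p) hle
    (by rw [card_conjMap, hQ, Coprime.card_map_subtype, P.card_eq_multiplicity])
  have hinv : S ≤ normalizer (((P' : Subgroup W).map W.subtype : Subgroup G) : Set G) := by
    rw [hP']
    intro s hs
    refine mem_normalizer_fintype ?_
    rintro _ ⟨z, hz, rfl⟩
    refine ⟨n⁻¹ * s * n * z * (n⁻¹ * s * n)⁻¹,
      (mem_normalizer_iff.1 (hP ((mem_normalizer_iff''.1 hnS s).1 hs)) z).1 hz, ?_⟩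
    show n * (n⁻¹ * s * n * z * (n⁻¹ * s * n)⁻¹) * n⁻¹ = s * (n * z * n⁻¹) * s⁻¹
    group
  obtain ⟨c, hc, he⟩ := Coprime.exists_centralizer_conj_sylow hW.inv hcop hsolv P P' hP hinv
  have hco : (c : G) ∈ oddPart t := by
    rw [← hW.fixed t ht ht1]
    exact ⟨c.2, mem_centralizer_singleton_iff.2 (mem_centralizer_iff.1 hc t ht).symm⟩
  have hmap : conjMap (c : G) Q = conjMap n Q := by
    rw [← hP', ← he, Coprime.map_smul_sylow]
  refine ⟨o * c, mul_mem ho hco, mem_normalizer_iff_map_conj_eq.2 ?_⟩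
  show conjMap ((o * (c : G))⁻¹ * (o * n)) Q = Q
  rw [show (o * (c : G))⁻¹ * (o * n) = (c : G)⁻¹ * n by group, ← conjMap_conjMap, ← hmap,
    conjMap_conjMap_inv]

end Solvable

end Setting

end CfsgLib.Walter
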