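import Cfsg.Agent.Lib.Walter.Model

/-!
# A central part gives a local subgroup with one class

If `R`, an invariant Sylow subgroup of `O(C(t))`, is centralised by `S` and by a rotation, let `V` be
a Sylow subgroup of `C(S)` above `R`, so the seven `V ∩ O(C(a))` are permuted by `N(S) ∩ N(V)`.  Two
of them meet non-trivially, and the normaliser of the intersection has one class of involutions
(`tools/NOTES_WALTER.md`, section 4).
-/

set_option autoImplicit false
set_option linter.unusedSectionVars false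
set_option linter.style.haveILetI false

universe u

namespace CfsgLib.Walter

open Subgroup
open CfsgLib.GWKlein (core oddPart)
open CfsgLib.GWDihedral.LTwoAut (fieldHom fieldHom_comm)

variable {G : Type u} [Group G] [Finite G] {p : ℕ} [Fact p.Prime]

/-! ### Full `p`-subgroups -/

/-- A full `p`-subgroup is maximal among `p`-subgroups. -/
theorem eq_of_full {A X K : Subgroup G} (hX : IsPGroup p X) (h1 : A ≤ X) (h2 : X ≤ K)
    (hA : ¬ p ∣ A.relIndex K) : A = X := by
  obtain ⟨n, hn⟩ := hX.exists_card_eq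
  have h3 : A.relIndex X ∣ p ^ n := by
    rw [← hn, relIndex]
    exact index_dvd_card _
  obtain ⟨k, -, hk⟩ := (Nat.dvd_prime_pow (Fact.out : p.Prime)).1 h3
  refine le_antisymm h1 (relIndex_eq_one.1 ?_)
  rcases Nat.eq_zero_or_pos k with rfl | hk0
  · simpa using hk
  · exact absurd ((dvd_pow_self p hk0.ne').trans (hk ▸ Dvd.intro _ (relIndex_mul_relIndex _ _ _ h1 h2))) hA

/-- A `p`-subgroup of `K` is conjugate into a full one. -/
theorem exists_conj_le_full {A X K : Subgroup G} (hAK : A ≤ K) (hA : IsPGroup p A)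
    (hfull : ¬ p ∣ A.relIndex K) (hX : IsPGroup p X) (hXK : X ≤ K) :
    ∃ c ∈ K, conjMap c X ≤ A := by
  let T : Sylow p K := (hA.of_equiv (subgroupOfEquivOfLe hAK).symm).toSylow hfull
  obtain ⟨Q, hQ⟩ := (hX.of_equiv (subgroupOfEquivOfLe hXK).symm).exists_le_sylow
  obtain ⟨c, hc⟩ := MulAction.exists_smul_eq K Q T
  refine ⟨c, c.2, ?_⟩
  rintro _ ⟨x, hx, rfl⟩
  have h : c * (⟨x, hXK hx⟩ : K) * c⁻¹ ∈ (T : Subgroup K) := hc ▸ ⟨⟨x, hXK hx⟩, hQ hx, rfl⟩
  exact h

theorem exists_sylow_of_full {A K : Subgroup G} (hAK : A ≤ K) (hA : IsPGroup p A)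
    (hfull : ¬ p ∣ A.relIndex K) : ∃ T : Sylow p K, (T : Subgroup K).map K.subtype = A :=
  ⟨(hA.of_equiv (subgroupOfEquivOfLe hAK).symm).toSylow hfull,
    (subgroupOf_map_subtype A K).trans (inf_eq_left.2 hAK)⟩

theorem isPGroup_conjMap {X : Subgroup G} (hX : IsPGroup p X) (g : G) : IsPGroup p ↥(conjMap g X) :=
  hX.map _

/-- A `p`-subgroup lies in a full one. -/
theorem exists_full_ge {X K : Subgroup G} (hX : IsPGroup p X) (hXK : X ≤ K) :
    ∃ V : Subgroup G, X ≤ V ∧ V ≤ K ∧ IsPGroup p ↥V ∧ ¬ p ∣ V.relIndex K := by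
  obtain ⟨Q, hQ⟩ := (hX.of_equiv (subgroupOfEquivOfLe hXK).symm).exists_le_sylow
  exact ⟨(Q : Subgroup K).map K.subtype, fun x hx => ⟨⟨x, hXK hx⟩, hQ hx, rfl⟩, map_subtype_le _,
    Q.2.map _, not_dvd_relIndex_map Q⟩

/-- Frattini: an element normalising `W` is corrected in `W` to normalise a full `p`-subgroup. -/
theorem exists_mul_mem_normalizer {A W : Subgroup G} (hAW : A ≤ W) (hA : IsPGroup p A)
    (hfull : ¬ p ∣ A.relIndex W) {c : G} (hc : c ∈ normalizer (W : Set G)) :
    ∃ w ∈ W, w * c ∈ normalizer (A : Set G) := by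
  obtain ⟨w, hw, hle⟩ := exists_conj_le_full hAW hA hfull (isPGroup_conjMap hA c) (by
    rintro _ ⟨x, hx, rfl⟩
    exact (mem_normalizer_iff.1 hc x).1 (hAW hx))
  refine ⟨w, hw, mem_normalizer_iff_map_conj_eq.2 ?_⟩
  show conjMap (w * c) A = A
  rw [← conjMap_conjMap]
  exact eq_of_le_of_card_ge hle (by rw [card_conjMap, card_conjMap])

/-- A full `p`-subgroup meets a normal subgroup in a full one. -/
theorem not_dvd_relIndex_inf {V W K : Subgroup G} (hVK : V ≤ K) (hV : IsPGroup p V)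
    (hfull : ¬ p ∣ V.relIndex K) (hWK : W ≤ K) (hn : K ≤ normalizer (W : Set G)) :
    ¬ p ∣ (V ⊓ W).relIndex W := by
  obtain ⟨X, hle, hXW, hX, hXf⟩ := exists_full_ge (hV.to_le (inf_le_left : V ⊓ W ≤ V)) inf_le_right
  obtain ⟨c, hc, hcX⟩ := exists_conj_le_full hVK hV hfull hX (hXW.trans hWK)
  have h : conjMap c X ≤ V ⊓ W := le_inf hcX (by
    rintro _ ⟨x, hx, rfl⟩
    exact (mem_normalizer_iff.1 (hn hc) x).1 (hXW hx))
  rw [eq_of_le_of_card_ge hle ((card_conjMap c X).symm.le.trans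
    (Nat.le_of_dvd Nat.card_pos (card_dvd_of_le h)))]
  exact hXf

/-! ### The stabiliser of `t` in the automiser of `S` -/

namespace Setting

variable {S : Subgroup G} (hS : Setting G S) {t : G}
include hS

/-- An element fixing `t` and a coset of `⟨t⟩` in `S` centralises `S`. -/
theorem mem_centralizer_of_pair (ht : t ∈ S) (ht1 : t ≠ 1) {n u : G}
    (hn : n ∈ normalizer (S : Set G)) (hnt : Commute n t) (hu : u ∈ S) (hu1 : u ≠ 1) (hut : u ≠ t)
    (h : n * u * n⁻¹ = u ∨ n * u * n⁻¹ = u * t) : n ∈ centralizer (S : Set G) := by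
  refine hS.mem_centralizer_of_sq hn (hS.centralizes_of_fixes_two (mul_mem hn hn) ht hu ht1 hu1
    (fun e => hut e.symm) (hnt.mul_left hnt) (mul_inv_eq_iff_eq_mul.1 ?_))
  rw [show n * n * u * (n * n)⁻¹ = n * (n * u * n⁻¹) * n⁻¹ by group]
  rcases h with h | h
  · rw [h, h]
  · rw [h, show n * (u * t) * n⁻¹ = n * u * n⁻¹ * (n * t * n⁻¹) by group, h,
      show n * t * n⁻¹ = t from mul_inv_eq_iff_eq_mul.2 hnt.eq, mul_assoc, hS.mul_self ht, mul_one]

/-- The orbit of a rotation on the cosets of `⟨t⟩` in `S`. -/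
theorem pair_cases (ht : t ∈ S) (ht1 : t ≠ 1) {g u : G} (hg : g ∈ normalizer (S : Set G))
    (hgt : Commute g t) (hgS : g ∉ centralizer (S : Set G)) (hu : u ∈ S) (hu1 : u ≠ 1) (hut : u ≠ t)
    {x : G} (hx : x ∈ S) (hx1 : x ≠ 1) (hxt : x ≠ t) :
    ∃ i : ℕ, i ≤ 2 ∧ (x = g ^ i * u * (g ^ i)⁻¹ ∨ x = g ^ i * u * (g ^ i)⁻¹ * t) := by
  classical
  have htt := hS.mul_self ht
  have hgi : ∀ i : ℕ, g ^ i * t * (g ^ i)⁻¹ = t := fun i =>
    mul_inv_eq_iff_eq_mul.2 (hgt.pow_left i).eq
  have hmem : ∀ i : ℕ, g ^ i * u * (g ^ i)⁻¹ ∈ S := fun i =>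
    (mem_normalizer_iff.1 (pow_mem hg i) u).1 hu
  have hne : ∀ i : ℕ, g ^ i * u * (g ^ i)⁻¹ ≠ 1 ∧ g ^ i * u * (g ^ i)⁻¹ ≠ t := fun i => by
    refine ⟨fun e => hu1 (conj_eq_one_iff.1 e), fun e => hut ?_⟩
    rw [← hgi i] at e
    exact mul_left_cancel (mul_right_cancel e)
  -- the cosets of the orbit are different
  have hdiff : ∀ i d : ℕ, 1 ≤ d → d ≤ 2 → ¬ (g ^ (i + d) * u * (g ^ (i + d))⁻¹ = g ^ i * u * (g ^ i)⁻¹ ∨
      g ^ (i + d) * u * (g ^ (i + d))⁻¹ = g ^ i * u * (g ^ i)⁻¹ * t) := by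
    intro i d hd hd' h
    have hd0 : g ^ d ∈ centralizer (S : Set G) := by
      refine hS.mem_centralizer_of_pair ht ht1 (pow_mem hg d) (hgt.pow_left d) hu hu1 hut ?_
      rw [pow_add, show g ^ i * g ^ d * u * (g ^ i * g ^ d)⁻¹ =
        g ^ i * (g ^ d * u * (g ^ d)⁻¹) * (g ^ i)⁻¹ by group] at h
      refine h.imp (fun e => mul_left_cancel (mul_right_cancel e)) fun e => ?_
      rw [← hgi i, show g ^ i * u * (g ^ i)⁻¹ * (g ^ i * t * (g ^ i)⁻¹) =
        g ^ i * (u * t) * (g ^ i)⁻¹ by group] at e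
      exact mul_left_cancel (mul_right_cancel e)
    refine hgS ?_
    interval_cases d
    · rwa [pow_one] at hd0
    · exact hS.mem_centralizer_of_sq hg (by rwa [pow_two] at hd0)
  let e : Fin 4 → G := ![1, g ^ 0 * u * (g ^ 0)⁻¹, g ^ 1 * u * (g ^ 1)⁻¹, g ^ 2 * u * (g ^ 2)⁻¹]
  have hesymm : ∀ a b : G, (a = b ∨ a = b * t) → (b = a ∨ b = a * t) := fun a b h =>
    h.imp Eq.symm fun h => by rw [h, mul_assoc, htt, mul_one]
  have hp : ∀ i j : Fin 4, i < j → ¬ (e j = e i ∨ e j = e i * t) := by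
    intro i j hij
    fin_cases i <;> fin_cases j <;> first
      | exact absurd hij (by decide)
      | exact fun h => h.elim (hne 0).1 (fun h => (hne 0).2 (h.trans (one_mul t)))
      | exact fun h => h.elim (hne 1).1 (fun h => (hne 1).2 (h.trans (one_mul t)))
      | exact fun h => h.elim (hne 2).1 (fun h => (hne 2).2 (h.trans (one_mul t)))
      | exact hdiff 0 1 le_rfl one_le_two
      | exact hdiff 0 2 one_le_two le_rfl
      | exact hdiff 1 1 le_rfl one_le_two
  let φ : Fin 4 × Bool → S := fun z => ⟨e z.1 * (if z.2 then t else 1), by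
    refine mul_mem ?_ (by split_ifs; exacts [ht, one_mem S])
    obtain ⟨i, -⟩ := z
    fin_cases i
    exacts [one_mem S, hmem 0, hmem 1, hmem 2]⟩
  have hφ : Function.Injective φ := by
    rintro ⟨i, b⟩ ⟨j, c⟩ h
    have h' : e i * (if b then t else 1) = e j * (if c then t else 1) := congrArg Subtype.val h
    have hor : e i = e j ∨ e i = e j * t := by
      cases b <;> cases c <;> simp only [if_true, Bool.false_eq_true, if_false, mul_one] at h'
      · exact Or.inl h'
      · exact Or.inr h'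
      · exact Or.inr (by rw [← h', mul_assoc, htt, mul_one])
      · exact Or.inl (mul_right_cancel h')
    have hij : i = j := by
      rcases lt_trichotomy i j with hlt | heq | hgt'
      · exact absurd (hesymm _ _ hor) (hp i j hlt)
      · exact heq
      · exact absurd hor (hp j i hgt')
    subst hij
    have h2 := mul_left_cancel h'
    cases b <;> cases c <;> simp_all
  obtain ⟨⟨i, b⟩, hib⟩ := (hφ.bijective_of_nat_card_le (by
    rw [hS.card, Nat.card_prod, Nat.card_fin, Nat.card_eq_fintype_card, Fintype.card_bool])).2 ⟨x, hx⟩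
  have hib' : e i * (if b then t else 1) = x := congrArg Subtype.val hib
  fin_cases i
  · cases b <;> simp [e] at hib'
    · exact absurd hib'.symm hx1
    · exact absurd hib'.symm hxt
  all_goals
    cases b <;> simp only [if_true, Bool.false_eq_true, if_false, mul_one] at hib'
  exacts [⟨0, by omega, Or.inl hib'.symm⟩, ⟨0, by omega, Or.inr hib'.symm⟩,
    ⟨1, by omega, Or.inl hib'.symm⟩, ⟨1, by omega, Or.inr hib'.symm⟩,
    ⟨2, le_rfl, Or.inl hib'.symm⟩, ⟨2, le_rfl, Or.inr hib'.symm⟩]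

omit [Fact p.Prime] in
theorem exists_ne (_ht : t ∈ S) : ∃ u ∈ S, u ≠ 1 ∧ u ≠ t := by
  by_contra h
  push Not at h
  have hsub : (S : Set G) ⊆ {1, t} := fun u hu => by
    by_cases hu1 : u = 1
    · simp [hu1]
    · simp [h u hu hu1]
  have := (Set.ncard_le_ncard hsub (Set.toFinite _)).trans
    ((Set.ncard_insert_le _ _).trans (Nat.add_le_add_right (Set.ncard_singleton t).le _))
  rw [← Nat.card_coe_set_eq, SetLike.coe_sort_coe, hS.card] at this
  omega

/-- A rotation generates the stabiliser of `t` in the automiser. -/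
theorem exists_pow_mul (ht : t ∈ S) (ht1 : t ≠ 1) {g n : G} (hg : g ∈ normalizer (S : Set G))
    (hgt : Commute g t) (hgS : g ∉ centralizer (S : Set G)) (hn : n ∈ normalizer (S : Set G))
    (hnt : Commute n t) : ∃ i : ℕ, (g ^ i)⁻¹ * n ∈ centralizer (S : Set G) := by
  obtain ⟨u, hu, hu1, hut⟩ := hS.exists_ne ht
  obtain ⟨i, -, hi⟩ := hS.pair_cases ht ht1 hg hgt hgS hu hu1 hut
    ((mem_normalizer_iff.1 hn u).1 hu) (fun e => hu1 (conj_eq_one_iff.1 e))
    (fun e => hut (by
      rw [← mul_inv_eq_iff_eq_mul.2 hnt.eq] at e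
      exact mul_left_cancel (mul_right_cancel e)))
  have ht' : (g ^ i)⁻¹ * t * g ^ i = t := by
    rw [mul_assoc, ← (hgt.pow_left i).eq, inv_mul_cancel_left]
  refine ⟨i, hS.mem_centralizer_of_pair ht ht1 (mul_mem (inv_mem (pow_mem hg i)) hn)
    (((hgt.pow_left i).inv_left).mul_left hnt) hu hu1 hut ?_⟩
  rw [show (g ^ i)⁻¹ * n * u * ((g ^ i)⁻¹ * n)⁻¹ = (g ^ i)⁻¹ * (n * u * n⁻¹) * g ^ i by group]
  refine hi.imp (fun e => ?_) fun e => ?_
  · rw [e]; group
  · rw [e, show (g ^ i)⁻¹ * (g ^ i * u * (g ^ i)⁻¹ * t) * g ^ i = u * ((g ^ i)⁻¹ * t * g ^ i) by group,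
      ht']

/-- The cube of a rotation centralises `S`. -/
theorem pow_three_mem (ht : t ∈ S) (ht1 : t ≠ 1) {g : G} (hg : g ∈ normalizer (S : Set G))
    (hgt : Commute g t) (hgS : g ∉ centralizer (S : Set G)) :
    g ^ 3 ∈ centralizer (S : Set G) := by
  obtain ⟨u, hu, hu1, hut⟩ := hS.exists_ne ht
  obtain ⟨i, hi2, hi⟩ := hS.pair_cases ht ht1 hg hgt hgS hu hu1 hut
    ((mem_normalizer_iff.1 (pow_mem hg 3) u).1 hu) (fun e => hu1 (conj_eq_one_iff.1 e))
    (fun e => hut (by
      rw [← mul_inv_eq_iff_eq_mul.2 (hgt.pow_left 3).eq] at e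
      exact mul_left_cancel (mul_right_cancel e)))
  have hd : g ^ (3 - i) ∈ centralizer (S : Set G) := by
    refine hS.mem_centralizer_of_pair ht ht1 (pow_mem hg _) (hgt.pow_left _) hu hu1 hut ?_
    rw [show g ^ 3 = g ^ i * g ^ (3 - i) by rw [← pow_add, Nat.add_sub_cancel' (by omega)],
      show g ^ i * g ^ (3 - i) * u * (g ^ i * g ^ (3 - i))⁻¹ =
        g ^ i * (g ^ (3 - i) * u * (g ^ (3 - i))⁻¹) * (g ^ i)⁻¹ by group] at hi
    refine hi.imp (fun e => mul_left_cancel (mul_right_cancel e)) fun e => ?_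
    have hgi : g ^ i * t * (g ^ i)⁻¹ = t := mul_inv_eq_iff_eq_mul.2 (hgt.pow_left i).eq
    rw [← hgi, show g ^ i * u * (g ^ i)⁻¹ * (g ^ i * t * (g ^ i)⁻¹) =
      g ^ i * (u * t) * (g ^ i)⁻¹ by group] at e
    exact mul_left_cancel (mul_right_cancel e)
  interval_cases i
  · exact hd
  · exact absurd (hS.mem_centralizer_of_sq hg (by rwa [show 3 - 1 = 2 from rfl, pow_two] at hd)) hgS
  · exact absurd (by rwa [show 3 - 2 = 1 from rfl, pow_one] at hd) hgS

theorem centralizer_le (ht : t ∈ S) : centralizer (S : Set G) ≤ centralizer ({t} : Set G) :=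
  Subgroup.centralizer_le (Set.singleton_subset_iff.2 ht)

end Setting

/-! ### The seven parts in a Sylow subgroup of `C(S)` -/

omit [Fact p.Prime] in
/-- Few elements of order three over a cyclic kernel in a cyclic image. -/
theorem card_cube_le {V R : Subgroup G} {A : Type*} [Group A] [Finite A] [IsCyclic A] (ψ : V →* A)
    (hψ : ∀ x : V, ψ x = 1 → (x : G) ∈ R) (hR : IsCyclic R)
    (hcomm : ∀ x ∈ V, ∀ y ∈ V, Commute x y) : Nat.card {x : V // x ^ 3 = 1} ≤ 9 := by
  classical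
  haveI := hR
  haveI : Fintype V := Fintype.ofFinite _
  haveI : Fintype R := Fintype.ofFinite _
  haveI : Fintype A := Fintype.ofFinite _
  rw [Nat.card_eq_fintype_card, Fintype.card_subtype]
  refine (Finset.card_le_mul_card_image (f := ψ) _ 3 fun z hz => ?_).trans ?_
  · obtain ⟨x₀, hx₀, rfl⟩ := Finset.mem_image.1 hz
    rw [Finset.mem_filter] at hx₀
    refine le_trans ?_ (IsCyclic.card_pow_eq_one_le (α := R) (n := 3) (by norm_num))
    refine Finset.card_le_card_of_injOn (fun x => if h : ((x₀⁻¹ * x : V) : G) ∈ R then ⟨_, h⟩ else 1)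
      (fun x hx => ?_) fun x hx y hy hxy => ?_
    · rw [Finset.mem_coe, Finset.mem_filter, Finset.mem_filter] at hx
      rw [Finset.mem_coe, Finset.mem_filter]
      refine ⟨Finset.mem_univ _, ?_⟩
      dsimp only
      rw [dif_pos (hψ _ (show ψ (x₀⁻¹ * x) = 1 by rw [map_mul, map_inv, hx.2, inv_mul_cancel]))]
      refine Subtype.ext ?_
      push_cast
      rw [((hcomm _ x₀.2 _ x.2).inv_left).mul_pow, inv_pow,
        show (x₀ : G) ^ 3 = 1 from congrArg Subtype.val hx₀.2,
        show (x : G) ^ 3 = 1 from congrArg Subtype.val hx.1.2, inv_one, one_mul]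
    · rw [Finset.mem_coe, Finset.mem_filter] at hx hy
      dsimp only at hxy
      rw [dif_pos (hψ _ (show ψ (x₀⁻¹ * x) = 1 by rw [map_mul, map_inv, hx.2, inv_mul_cancel])),
        dif_pos (hψ _ (show ψ (x₀⁻¹ * y) = 1 by rw [map_mul, map_inv, hy.2, inv_mul_cancel]))] at hxy
      exact mul_left_cancel (Subtype.ext (Subtype.mk.inj hxy) : x₀⁻¹ * x = x₀⁻¹ * y)
  · refine Nat.mul_le_mul_left 3 ((Finset.card_le_card fun z hz => ?_).trans
      (IsCyclic.card_pow_eq_one_le (α := A) (n := 3) (by norm_num)))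
    obtain ⟨x, hx, rfl⟩ := Finset.mem_image.1 hz
    rw [Finset.mem_filter] at hx ⊢
    exact ⟨Finset.mem_univ _, by rw [← map_pow, hx.2, map_one]⟩

omit [Fact p.Prime] in
/-- Elements of order three in different cyclic subgroups are counted twice. -/
theorem two_mul_card_le {V : Subgroup G} {ι : Type*} [Finite ι] (X : ι → V)
    (h3 : ∀ a, orderOf (X a) = 3) (hd : ∀ a b, a ≠ b → X a ≠ X b ∧ X a ≠ (X b)⁻¹) :
    Nat.card ι * 2 ≤ Nat.card {x : V // x ^ 3 = 1} := by
  let Φ : ι × Bool → {x : V // x ^ 3 = 1} := fun z => ⟨if z.2 then X z.1 else (X z.1)⁻¹, by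
    have h := pow_orderOf_eq_one (X z.1)
    rw [h3] at h
    split_ifs
    · exact h
    · rw [inv_pow, h, inv_one]⟩
  have hne : ∀ a, X a ≠ (X a)⁻¹ := fun a e => by
    have h1 : orderOf (X a) ∣ 2 := orderOf_dvd_of_pow_eq_one
      (by rw [pow_two]; nth_rewrite 2 [e]; exact mul_inv_cancel _)
    rw [h3] at h1
    exact absurd h1 (by decide)
  have hΦ : Function.Injective Φ := by
    rintro ⟨a, i⟩ ⟨b, j⟩ h
    have h' : (if i then X a else (X a)⁻¹) = (if j then X b else (X b)⁻¹) := congrArg Subtype.val h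
    have hab : a = b := by
      by_contra hne'
      cases i <;> cases j <;> simp only [if_true, Bool.false_eq_true, if_false, inv_inj] at h'
      exacts [(hd a b hne').1 h', (hd a b hne').2 (inv_eq_iff_eq_inv.1 h'), (hd a b hne').2 h',
        (hd a b hne').1 h']
    subst hab
    cases i <;> cases j <;> simp only [if_true, Bool.false_eq_true, if_false, inv_inj] at h' <;>
      first
        | rfl
        | exact absurd h' (hne a)
        | exact absurd h'.symm (hne a)
  have h := Nat.card_le_card_of_injective Φ hΦ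
  rwa [Nat.card_prod, Nat.card_eq_fintype_card (α := Bool), Fintype.card_bool] at h

section Central

variable {S : Subgroup G} {t : G} {R V : Subgroup G}

/-- What is fixed in this section. -/
structure CentralData (S : Subgroup G) (p : ℕ) (t : G) (R V : Subgroup G) : Prop where
  setting : Setting G S
  mem : t ∈ S
  ne : t ≠ 1
  notSolvable : ¬ Group.IsSolvable ↥(centralizer ({t} : Set G))
  part : PartSylow S p t R
  central : CentralPart S t R
  ne_bot : R ≠ ⊥
  le : R ≤ V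
  le_cent : V ≤ centralizer (S : Set G)
  pgroup : IsPGroup p ↥V
  full : ¬ p ∣ V.relIndex (centralizer (S : Set G))

variable (D : CentralData S p t R V)
include D

theorem CentralData.eq_inf : R = V ⊓ oddPart t :=
  eq_of_full (D.pgroup.to_le inf_le_left) (le_inf D.le D.part.le) inf_le_right D.part.full

/-- The element of `N(S) ∩ N(V)` carrying `t` to `a`. -/
theorem CentralData.exists_transport {a : G} (ha : a ∈ S) (ha1 : a ≠ 1) :
    ∃ n ∈ normalizer (S : Set G), n ∈ normalizer (V : Set G) ∧ n * t * n⁻¹ = a ∧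
      conjMap n R = V ⊓ oddPart a := by
  obtain ⟨n₀, hn₀, he⟩ := D.setting.exists_normalizer_conj D.mem ha D.ne ha1
  obtain ⟨w, hw, hwn⟩ := exists_mul_mem_normalizer D.le_cent D.pgroup D.full
    (le_normalizer_centralizer S hn₀)
  have hwN : w ∈ normalizer (S : Set G) := Subgroup.centralizer_le_normalizer _ hw
  have hwe : w * n₀ * t * (w * n₀)⁻¹ = a := by
    calc w * n₀ * t * (w * n₀)⁻¹ = w * (n₀ * t * n₀⁻¹) * w⁻¹ := by group
      _ = a := by rw [he, ← mem_centralizer_iff.1 hw a ha, mul_inv_cancel_right]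
  refine ⟨w * n₀, mul_mem hwN hn₀, hwn, hwe, ?_⟩
  rw [D.eq_inf, conjMap, Subgroup.map_inf _ _ _ (MulAut.conj (w * n₀)).injective, ← conjMap,
    ← conjMap, conjMap_oddPart, hwe]
  congr 1
  exact mem_normalizer_iff_map_conj_eq.1 hwn

/-- An element of `V` without field part lies in `R`. -/
theorem CentralData.mem_of_fieldHom (hp2 : p ≠ 2) {F : Type} [Field F] [Fintype F]
    (hodd : Odd (Fintype.card F)) (h8 : Fintype.card F % 8 = 3 ∨ Fintype.card F % 8 = 5)
    {f : ↥(centralizer ({t} : Set G)) →* MulAut (Matrix.ProjectiveSpecialLinearGroup (Fin 2) F)}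
    (hker : f.ker.map (centralizer ({t} : Set G)).subtype = oddPart t ⊔ zpowers t) {x : G}
    (hx : x ∈ V)
    (hfx : fieldHom (f ⟨x, D.setting.centralizer_le D.mem (D.le_cent hx)⟩) = 1) : x ∈ R := by
  rw [D.eq_inf]
  refine ⟨hx, D.setting.mem_oddPart_of_fieldHom D.mem D.ne hodd h8 hker _ (D.le_cent hx) ?_ hfx⟩
  obtain ⟨k, hk⟩ := D.pgroup ⟨x, hx⟩
  exact ((Fact.out : p.Prime).odd_of_ne_two hp2).pow.of_dvd_nat
    (orderOf_dvd_of_pow_eq_one (congrArg Subtype.val hk))

/-- The normaliser of an intersection of two parts has one class of involutions. -/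
theorem CentralData.oneClassLocal_of_meet (hsimple : IsSimpleGroup G) {b : G} (hb : b ∈ S)
    (hb1 : b ≠ 1) (hbt : b ≠ t) (hY : R ⊓ (V ⊓ oddPart b) ≠ ⊥) : OneClassLocal S p t := by
  have hS := D.setting
  obtain ⟨g, hgt, hgR, hgN, hgS, -⟩ := D.central.2
  have hSR := D.central.1
  set Y := R ⊓ (V ⊓ oddPart b) with hYdef
  set H := normalizer (Y : Set G)
  have hYR : Y ≤ R := inf_le_left
  have hcR : centralizer (R : Set G) ≤ H :=
    (Subgroup.centralizer_le (s := (Y : Set G)) hYR).trans (Subgroup.centralizer_le_normalizer _)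
  have hSC := hS.le_centralizer D.mem
  -- `N(Y)` covers
  have hcovN : Covers t (centralizer ({t} : Set G) ⊓ normalizer (R : Set G)) := by
    obtain ⟨T, hT⟩ := exists_sylow_of_full D.part.le D.part.pgroup D.part.full
    rw [← hT]
    exact covers_normalizer (hS.orderOf_two D.mem D.ne)
      (le_sup_right.trans' (le_inf le_rfl le_rfl)) (GWKlein.oddPart_le t)
      (centralizer_le_normalizer_oddPart t) (hS.le_normalizer_oddPart D.mem D.mem) (odd_card_oddPart t) T
      (hT.symm ▸ D.part.inv D.mem)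
  set L := oddPart t ⊔ (centralizer ({t} : Set G) ⊓ centralizer (R : Set G)) with hL
  have hLn : centralizer ({t} : Set G) ≤ normalizer (L : Set G) := by
    refine hcovN.trans (sup_le (le_sup_left.trans le_normalizer) ?_)
    intro m hm
    obtain ⟨hm', hmC⟩ := mem_inf.1 hm
    have hmR := (mem_inf.1 hm').2
    have h1 : m ∈ normalizer ((centralizer ({t} : Set G) ⊓ centralizer (R : Set G) : Subgroup G) : Set G) :=
      inf_normalizer_le_normalizer_inf ⟨le_normalizer hmC, le_normalizer_centralizer R hmR⟩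
    rw [mem_normalizer_iff_map_conj_eq, hL, Subgroup.map_sup,
      mem_normalizer_iff_map_conj_eq.1 (centralizer_le_normalizer_oddPart t hmC),
      mem_normalizer_iff_map_conj_eq.1 h1]
  have hSL : S ≤ L := (le_inf hSC hSR).trans le_sup_right
  set W := oddPart t ⊓ oddPart b ⊓ centralizer (S : Set G) with hW
  have hWn : centralizer (S : Set G) ≤ normalizer (W : Set G) := fun m hm =>
    inf_normalizer_le_normalizer_inf ⟨inf_normalizer_le_normalizer_inf
      ⟨centralizer_le_normalizer_oddPart t (hS.centralizer_le D.mem hm),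
        centralizer_le_normalizer_oddPart b (hS.centralizer_le hb hm)⟩, le_normalizer hm⟩
  have hYW : Y = V ⊓ W := by
    rw [hYdef, hW, D.eq_inf]
    exact le_antisymm (le_inf (inf_le_right.trans inf_le_left) (le_inf (le_inf
        (inf_le_left.trans inf_le_right) (inf_le_right.trans inf_le_right))
        ((inf_le_right.trans inf_le_left).trans D.le_cent)))
      (le_inf (le_inf inf_le_left ((inf_le_right.trans inf_le_left).trans inf_le_left))
        (le_inf inf_le_left ((inf_le_right.trans inf_le_left).trans inf_le_right)))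
  have hYp : IsPGroup p ↥Y := D.part.pgroup.to_le hYR
  have hYfull : ¬ p ∣ Y.relIndex W := hYW ▸ not_dvd_relIndex_inf D.le_cent D.pgroup D.full inf_le_right hWn
  have hcov : Covers t H := by
    have hOle : oddPart t ≤ oddPart t ⊔ (H ⊓ centralizer ({t} : Set G)) := le_sup_left
    have hLle : L ≤ oddPart t ⊔ (H ⊓ centralizer ({t} : Set G)) :=
      sup_le_sup_left (le_inf (inf_le_right.trans hcR) inf_le_left) _
    intro c hc
    obtain ⟨y, hy, hye⟩ := hS.exists_conj_eq hSL (X := conjMap c S) (by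
      rintro _ ⟨s, hs, rfl⟩
      exact (mem_normalizer_iff.1 (hLn hc) s).1 (hSL hs)) (by rw [card_conjMap, hS.card])
    have hnS : y⁻¹ * c ∈ normalizer (S : Set G) := mem_normalizer_iff_map_conj_eq.2 (by
      show conjMap (y⁻¹ * c) S = S
      rw [← conjMap_conjMap, ← hye, conjMap_conjMap_inv])
    have hyC : y ∈ centralizer ({t} : Set G) :=
      sup_le (GWKlein.oddPart_le t) inf_le_left hy
    have hnC : y⁻¹ * c ∈ centralizer ({t} : Set G) := mul_mem (inv_mem hyC) hc
    obtain ⟨i, hi⟩ := hS.exists_pow_mul D.mem D.ne hgN hgt.symm hgS hnS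
      (mem_centralizer_singleton_iff.1 hnC)
    obtain ⟨w, hw, hwm⟩ := exists_mul_mem_normalizer (hYW ▸ inf_le_right) hYp hYfull (hWn hi)
    rw [show c = y * g ^ i * w⁻¹ * (w * ((g ^ i)⁻¹ * (y⁻¹ * c))) by group]
    refine mul_mem (mul_mem (mul_mem (hLle hy) (mem_sup_right ⟨pow_mem (hcR hgR) i, ?_⟩))
      (mem_sup_left (inv_mem ((inf_le_left.trans inf_le_left : W ≤ oddPart t) hw))))
      (mem_sup_right ⟨hwm, ?_⟩)
    · exact pow_mem (mem_centralizer_singleton_iff.2 hgt.symm.eq) i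
    · exact mul_mem (GWKlein.oddPart_le t ((inf_le_left.trans inf_le_left : W ≤ oddPart t) hw))
        (hS.centralizer_le D.mem hi)
  have hSH : S ≤ H := hSR.trans hcR
  have hRH : R ≤ H := by
    refine (le_inf le_normalizer ?_).trans inf_normalizer_le_normalizer_inf
    intro r hr
    exact inf_normalizer_le_normalizer_inf ⟨le_normalizer (D.le hr),
      centralizer_le_normalizer_oddPart b (hS.centralizer_le hb (D.le_cent (D.le hr)))⟩
  have hH : H ≠ ⊤ := fun h => by
    haveI := hsimple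
    rcases (normalizer_eq_top_iff.1 h : Y.Normal).eq_bot_or_eq_top with e | e
    · exact hY e
    · have h2 : (⊤ : Subgroup G) ≤ oddPart t := e.ge.trans (hYR.trans D.part.le)
      exact D.ne (eq_one_of_sq (odd_card_oddPart t) (h2 (mem_top t)) (hS.mul_self D.mem))
  refine ⟨H, hH, hSH, hcov, ?_, R, hRH, D.part⟩
  refine (hS.oneClass_or_centralMod D.mem D.ne hSH hcov).resolve_right fun hcm => ?_
  -- the rotation of `b` moves `t`
  obtain ⟨n, hnS, -, hne, hnR⟩ := D.exists_transport hb hb1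
  set r := n * g * n⁻¹ with hr
  have hrS : r ∈ normalizer (S : Set G) := mul_mem (mul_mem hnS hgN) (inv_mem hnS)
  have hrb : Commute r b := hne ▸ hgt.symm.map (MulAut.conj n).toMonoidHom
  have hrC : r ∉ centralizer (S : Set G) := fun h => hgS (by
    have h1 := (mem_normalizer_iff.1 (inv_mem (le_normalizer_centralizer S hnS)) _).1 h
    rwa [show n⁻¹ * r * n⁻¹⁻¹ = g by rw [hr]; group] at h1)
  have hrY : r ∈ H := Subgroup.centralizer_le_normalizer _ (mem_centralizer_iff.2 fun y hy => by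
    obtain ⟨z, hz, rfl⟩ := hnR.ge (mem_inf.1 hy).2
    exact ((show Commute z g from mem_centralizer_iff.1 hgR z hz).map (MulAut.conj n).toMonoidHom).eq)
  refine hrC (hS.centralizes_of_fixes_two hrS D.mem hb D.ne hb1 hbt.symm ?_ hrb)
  have hk : r * t * r⁻¹ * t ∈ core H := by
    obtain ⟨o, ho, k, hk, hok⟩ := (Coprime.mem_sup_of_le_normalizer
      (inf_le_left.trans (le_normalizer.trans (GWKlein.le_normalizer_core H)))).1 (hcm hrY)
    have hkt : k * t * k⁻¹ = t :=
      mul_inv_eq_iff_eq_mul.2 (mem_centralizer_singleton_iff.1 (mem_inf.1 hk).2)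
    rw [← hok, show o * k * t * (o * k)⁻¹ * t = o * (k * t * k⁻¹) * o⁻¹ * t by group, hkt,
      show o * t * o⁻¹ * t = o * (t * o⁻¹ * t) by group]
    refine mul_mem ho ?_
    have h1 := GWKlein.core_conj_mem H (le_normalizer (hSH D.mem)) (inv_mem ho)
    rwa [hS.inv_eq D.mem] at h1
  have h1 : r * t * r⁻¹ * t = 1 := eq_one_of_sq (GWKlein.odd_card_core H) hk
    (hS.mul_self (mul_mem ((mem_normalizer_iff.1 hrS t).1 D.mem) D.mem))
  rw [mul_eq_one_iff_eq_inv, hS.inv_eq D.mem, mul_inv_eq_iff_eq_mul] at h1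
  exact h1

/-- Two of the parts meet. -/
theorem CentralData.exists_meet (hp2 : p ≠ 2) :
    ∃ b ∈ S, b ≠ 1 ∧ b ≠ t ∧ R ⊓ (V ⊓ oddPart b) ≠ ⊥ := by
  classical
  by_contra hall
  push Not at hall
  have hS := D.setting
  obtain ⟨F, _, _, ⟨hodd, -, h8⟩, f, hker, -⟩ := hS.exists_model D.mem D.ne D.notSolvable
  obtain ⟨g₀, hgt, hgR, hgN, hgS, -⟩ := D.central.2
  have hVC : V ≤ centralizer ({t} : Set G) := D.le_cent.trans (hS.centralizer_le D.mem)
  let ψ : V →* (F ≃+* F) := (fieldHom.comp f).comp (inclusion hVC)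
  have hψ : ∀ x : V, ψ x = 1 → (x : G) ∈ R := fun x h =>
    D.mem_of_fieldHom hp2 hodd h8 hker x.2 h
  have hψc : ∀ x y : V, ψ (x * y * x⁻¹ * y⁻¹) = 1 := fun x y => by
    simpa only [ψ, MonoidHom.comp_apply, map_mul, map_inv] using
      fieldHom_comm (f (inclusion hVC x)) (f (inclusion hVC y))
  have hcR : ∀ x ∈ V, ∀ y ∈ V, x * y * x⁻¹ * y⁻¹ ∈ R := fun x hx y hy => by
    have h := hψ _ (hψc ⟨x, hx⟩ ⟨y, hy⟩)
    simpa only [Subgroup.coe_mul, Subgroup.coe_inv] using h
  -- distinct parts are disjoint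
  have hdisj : ∀ a ∈ S, a ≠ 1 → ∀ a' ∈ S, a' ≠ 1 → a ≠ a' → ∀ x ∈ V, x ∈ oddPart a → x ∈ oddPart a' →
      x = 1 := by
    intro a ha ha1 a' ha' ha1' hne x hxV hxa hxa'
    obtain ⟨n, hnS, hnV, hnt, hnR⟩ := D.exists_transport ha ha1
    obtain ⟨y, hy, rfl⟩ := hnR.ge ⟨hxV, hxa⟩
    set b := n⁻¹ * a' * n with hb
    have hbS : b ∈ S := (mem_normalizer_iff''.1 hnS a').1 ha'
    have hb1 : b ≠ 1 := fun e => ha1' (by
      rw [show a' = n * b * n⁻¹ by rw [hb]; group, e]; group)
    have hbt : b ≠ t := fun e => hne (by rw [← hnt, ← e, hb]; group)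
    have hyb : y ∈ oddPart b := by
      have h := mem_oddPart_conj (g := n⁻¹) hxa'
      rw [inv_inv, ← hb] at h
      rwa [show n⁻¹ * ((MulAut.conj n).toMonoidHom y) * n = y by
        show n⁻¹ * (n * y * n⁻¹) * n = y; group] at h
    have h1 : y = 1 := mem_bot.1 (hall b hbS hb1 hbt ▸ ⟨hy, D.le hy, hyb⟩)
    rw [h1, map_one]
  obtain ⟨b, hb, hb1, hbt⟩ := hS.exists_ne D.mem
  have hcomm : ∀ x ∈ V, ∀ y ∈ V, Commute x y := by
    intro x hx y hy
    refine mul_inv_eq_iff_eq_mul.1 (mul_inv_eq_one.1 (hdisj t D.mem D.ne b hb hb1 hbt.symm _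
      (mul_mem (mul_mem (mul_mem hx hy) (inv_mem hx)) (inv_mem hy)) ?_ ?_))
    · exact D.part.le (hcR x hx y hy)
    · obtain ⟨n, -, hnV, -, hnR⟩ := D.exists_transport hb hb1
      have hx' : n⁻¹ * x * n ∈ V := (mem_normalizer_iff''.1 hnV x).1 hx
      have hy' : n⁻¹ * y * n ∈ V := (mem_normalizer_iff''.1 hnV y).1 hy
      have h : n⁻¹ * x * n * (n⁻¹ * y * n) * (n⁻¹ * x * n)⁻¹ * (n⁻¹ * y * n)⁻¹ ∈ R :=
        hcR _ hx' _ hy'
      have h' := hnR.le (conj_mem_conjMap (g := n) h)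
      convert (mem_inf.1 h').2 using 1
      group
  have hVR : V ≤ centralizer (R : Set G) := fun x hx => mem_centralizer_iff.2 fun r hr =>
    (hcomm r (D.le hr) x hx).eq
  have hRone : Nat.card R ≠ 1 := fun h => D.ne_bot (eq_bot_of_card_eq R h)
  -- a rotation normalising `V`
  obtain ⟨w, hw, hgV⟩ := exists_mul_mem_normalizer (W := centralizer (S : Set G) ⊓ centralizer (R : Set G))
    (le_inf D.le_cent hVR) D.pgroup
    (fun h => D.full (h.trans (Dvd.intro _ (relIndex_mul_relIndex _ _ _ (le_inf D.le_cent hVR) inf_le_left))))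
    (c := g₀) (inf_normalizer_le_normalizer_inf
      ⟨le_normalizer_centralizer S hgN, le_normalizer hgR⟩)
  set g := w * g₀ with hg
  have hwS : w ∈ centralizer (S : Set G) := (mem_inf.1 hw).1
  have hgN' : g ∈ normalizer (S : Set G) := mul_mem (Subgroup.centralizer_le_normalizer _ hwS) hgN
  have hgt' : Commute g t :=
    (show Commute w t from (mem_centralizer_iff.1 hwS t D.mem).symm).mul_left hgt.symm
  have hgS' : g ∉ centralizer (S : Set G) := fun h => hgS ((Subgroup.mul_mem_cancel_left _ hwS).1 h)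
  have hgR' : g ∈ centralizer (R : Set G) := mul_mem (mem_inf.1 hw).2 hgR
  have hcomR : ∀ x ∈ V, g * x * g⁻¹ * x⁻¹ ∈ R := by
    intro x hx
    refine hψ ⟨_, mul_mem ((mem_normalizer_iff.1 hgV x).1 hx) (inv_mem hx)⟩ ?_
    show fieldHom (f ⟨g * x * g⁻¹ * x⁻¹,
      hVC (mul_mem ((mem_normalizer_iff.1 hgV x).1 hx) (inv_mem hx))⟩) = 1
    have hgC : g ∈ centralizer ({t} : Set G) := mem_centralizer_singleton_iff.2 hgt'.eq
    rw [show (⟨g * x * g⁻¹ * x⁻¹, hVC (mul_mem ((mem_normalizer_iff.1 hgV x).1 hx) (inv_mem hx))⟩ :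
        ↥(centralizer ({t} : Set G))) =
      ⟨g, hgC⟩ * ⟨x, hVC hx⟩ * ⟨g, hgC⟩⁻¹ * ⟨x, hVC hx⟩⁻¹ from Subtype.ext rfl]
    simpa only [map_mul, map_inv] using fieldHom_comm (f ⟨g, hgC⟩) (f ⟨x, hVC hx⟩)
  by_cases h3 : p = 3
  · -- too many elements of order three
    subst h3
    obtain ⟨n', hp', hq'⟩ := FiniteField.card F (ringChar F)
    haveI : Fact (ringChar F).Prime := ⟨hp'⟩
    obtain ⟨e⟩ := CfsgLib.KnownC.AutPSL.ringAut_cyclic (F := F) hq'
    haveI : IsCyclic (F ≃+* F) := isCyclic_of_surjective e.symm e.symm.surjective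
    obtain ⟨n, hnS, hnV, hnb, hnR⟩ := D.exists_transport hb hb1
    have hnmem : ∀ r : R, n * r * n⁻¹ ∈ V := fun r => (mem_normalizer_iff.1 hnV _).1 (D.le r.2)
    let χ : R →* (F ≃+* F) := ψ.comp
      (((MulAut.conj n).toMonoidHom.comp R.subtype).codRestrict V hnmem)
    haveI hRcyc : IsCyclic R := isCyclic_of_injective χ ((injective_iff_map_eq_one χ).2 fun r hr => by
      have h1 : n * r * n⁻¹ ∈ R := hψ ⟨_, hnmem r⟩ hr
      have h2 : n * r * n⁻¹ ∈ oddPart b := (mem_inf.1 (hnR.le (conj_mem_conjMap r.2))).2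
      exact Subtype.ext (conj_eq_one_iff.1
        (hdisj t D.mem D.ne b hb hb1 hbt.symm _ (hnmem r) (D.part.le h1) h2)))
    haveI : Finite (F ≃+* F) :=
      Finite.of_injective (fun e : F ≃+* F => (e : F → F)) DFunLike.coe_injective
    have hch : ∀ a : {a : G // a ∈ S ∧ a ≠ 1}, ∃ x : V, orderOf x = 3 ∧ (x : G) ∈ oddPart a.1 := by
      intro a
      obtain ⟨m, -, -, -, hmR⟩ := D.exists_transport a.2.1 a.2.2
      have hc : Nat.card ↥(V ⊓ oddPart a.1) = Nat.card R := by rw [← hmR, card_conjMap]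
      obtain ⟨k, hk⟩ := D.part.pgroup.exists_card_eq
      have hk0 : k ≠ 0 := fun e => hRone (by rw [hk, e, pow_zero])
      obtain ⟨x, hx⟩ := exists_prime_orderOf_dvd_card' (G := ↥(V ⊓ oddPart a.1)) 3
        (by rw [hc, hk]; exact dvd_pow_self 3 hk0)
      exact ⟨⟨x, (mem_inf.1 x.2).1⟩, by rw [Subgroup.orderOf_mk, Subgroup.orderOf_coe, hx],
        (mem_inf.1 x.2).2⟩
    choose X hX3 hXa using hch
    have h14 := two_mul_card_le X hX3 fun a a' hne => by
      have h1 : X a ≠ 1 := fun e => by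
        have := hX3 a
        rw [e, orderOf_one] at this
        omega
      have key : ∀ y : V, X a = y → (y : G) ∈ oddPart a'.1 → False := fun y he hy =>
        h1 (Subtype.ext (hdisj a.1 a.2.1 a.2.2 a'.1 a'.2.1 a'.2.2 (fun e => hne (Subtype.ext e)) _
          (X a).2 (hXa a) (he ▸ hy)))
      exact ⟨fun e => key _ e (hXa a'), fun e => key _ e (inv_mem (hXa a'))⟩
    rw [hS.card_ne_one] at h14
    have := h14.trans (card_cube_le ψ hψ hRcyc hcomm)
    omega
  · -- a power of the rotation fixes all parts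
    set k := Nat.card R with hk
    have hfix : ∀ x ∈ V, g ^ k * x * (g ^ k)⁻¹ = x := by
      intro x hx
      set r := g * x * g⁻¹ * x⁻¹ with hr
      have hgr : g * r * g⁻¹ = r := mul_inv_eq_iff_eq_mul.2
        (mem_centralizer_iff.1 hgR' r (hcomR x hx)).symm
      have key : ∀ j : ℕ, g ^ j * x * (g ^ j)⁻¹ = r ^ j * x := by
        intro j
        induction j with
        | zero => simp
        | succ j ih =>
          rw [pow_succ', show g * g ^ j * x * (g * g ^ j)⁻¹ = g * (g ^ j * x * (g ^ j)⁻¹) * g⁻¹ by group,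
            ih, show g * (r ^ j * x) * g⁻¹ = g * r ^ j * g⁻¹ * (r * x) by rw [hr]; group,
            ← conj_pow, hgr, pow_succ, hr]
          group
      rw [key, show r ^ k = 1 from congrArg Subtype.val
        (pow_card_eq_one' (x := (⟨r, hcomR x hx⟩ : R))), one_mul]
    obtain ⟨i, hi⟩ := D.part.pgroup.exists_card_eq
    have hkS : g ^ k ∉ centralizer (S : Set G) := fun h => hgS' (by
      have h3g := hS.pow_three_mem D.mem D.ne hgN' hgt' hgS'
      have hne3 : k % 3 ≠ 0 := fun e => by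
        have h3k : 3 ∣ p ^ i := hi ▸ Nat.dvd_of_mod_eq_zero e
        exact h3 ((Nat.prime_dvd_prime_iff_eq Nat.prime_three Fact.out).1
          (Nat.prime_three.dvd_of_dvd_pow h3k)).symm
      rw [← Nat.div_add_mod k 3, pow_add, pow_mul, Subgroup.mul_mem_cancel_left _ (pow_mem h3g _)] at h
      rcases (by omega : k % 3 = 1 ∨ k % 3 = 2) with e | e
      · rwa [e, pow_one] at h
      · exact hS.mem_centralizer_of_sq hgN' (by rwa [e, pow_two] at h))
    have hmove : g ^ k * b * (g ^ k)⁻¹ ≠ b := fun e => hkS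
      (hS.centralizes_of_fixes_two (pow_mem hgN' k) D.mem hb D.ne hb1 hbt.symm (hgt'.pow_left k)
        (mul_inv_eq_iff_eq_mul.1 e))
    obtain ⟨n, -, -, -, hnR⟩ := D.exists_transport hb hb1
    refine D.ne_bot ((eq_bot_iff_forall _).2 fun r hr => ?_)
    have hx := hnR.le (conj_mem_conjMap (g := n) hr)
    have hx' := mem_oddPart_conj (g := g ^ k) (mem_inf.1 hx).2
    rw [hfix _ (mem_inf.1 hx).1] at hx'
    exact conj_eq_one_iff.1 (hdisj b hb hb1 _ ((mem_normalizer_iff.1 (pow_mem hgN' k) b).1 hb)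
      (fun e => hb1 (conj_eq_one_iff.1 e)) hmove.symm _ (mem_inf.1 hx).1 (mem_inf.1 hx).2 hx')

end Central

/-- A central part gives the first outcome of the climb. -/
theorem Minimal.oneClassLocal_of_centralPart {S : Subgroup G} (M : Minimal G S) (hp2 : p ≠ 2) {t : G}
    (ht : t ∈ S) (ht1 : t ≠ 1) (hns : ¬ Group.IsSolvable ↥(centralizer ({t} : Set G))) {R : Subgroup G}
    (hR : PartSylow S p t R) (hR1 : R ≠ ⊥) (hc : CentralPart S t R) : OneClassLocal S p t := by
  have hRS : R ≤ centralizer (S : Set G) := fun r hr => mem_centralizer_iff.2 fun s hs =>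
    (mem_centralizer_iff.1 (hc.1 hs) r hr).symm
  obtain ⟨V, hRV, hVC, hV, hVf⟩ := exists_full_ge hR.pgroup hRS
  have D : CentralData S p t R V := ⟨M.setting, ht, ht1, hns, hR, hc, hR1, hRV, hVC, hV, hVf⟩
  obtain ⟨b, hb, hb1, hbt, hY⟩ := D.exists_meet hp2
  exact D.oneClassLocal_of_meet M.simple hb hb1 hbt hY

end CfsgLib.Walter
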