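import Cfsg.Agent.Lib.Walter.Basic
import Cfsg.Agent.Lib.Fusion.ZJFusion
import Cfsg.Agent.Lib.Fusion.ZJFull
import Cfsg.Agent.Lib.Fusion.Quotient
import Cfsg.Agent.Lib.Classical.SL2Quaternion
import Cfsg.Agent.Lib.Classical.SL2Sylow
import Cfsg.Agent.Lib.Components.Constrained
import Cfsg.Agent.Lib.Components.PComponents

/-!
# The climb

`C(t)` is not soluble and the invariant Sylow subgroup `R` of `O(C(t))` is not central.  Starting
from `R` we climb to an invariant `p`-subgroup `D` that is maximal with covering normaliser and then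
through normalisers of `Z(J(P))` to a Sylow subgroup of the group (`tools/NOTES_WALTER.md`, 3).
-/

set_option autoImplicit false
set_option linter.unusedSectionVars false
set_option linter.style.haveILetI false

universe u

namespace CfsgLib.Walter

open Subgroup
open scoped Pointwise commutatorElement MatrixGroups
open CfsgLib.GWKlein (core oddPart core_le le_core odd_card_core core_conj_mem le_normalizer_core)

variable {G : Type u} [Group G] [Finite G]

/-! ### Elementary lemmas -/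

/-- A group is solvable if some homomorphism to a solvable group has a solvable kernel. -/
theorem isSolvable_of_hom {A B : Subgroup G} {Q : Type*} [Group Q] [Group.IsSolvable Q]
    (f : ↥A →* Q) (h : ∀ x ∈ f.ker, (x : G) ∈ B) (hB : Group.IsSolvable ↥B) :
    Group.IsSolvable ↥A := by
  haveI : Group.IsSolvable ↥f.ker := by
    haveI := hB
    refine Group.isSolvable_of_isSolvable_injective
      (f := (A.subtype.comp f.ker.subtype).codRestrict B fun x => h x x.2) fun x y e => ?_
    exact Subtype.ext (Subtype.ext (congrArg Subtype.val e :))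
  exact Group.isSolvable_of_ker_le_range f.ker.subtype f (range_subtype _).ge

/-- Two elements of a coset of order two. -/
theorem mem_or_mul_mem {X : Type*} [Group X] {N : Subgroup X} [N.Normal] {τ x : X}
    (hτ : τ * τ = 1) (hx : x ∈ N ⊔ zpowers τ) : x ∈ N ∨ x * τ ∈ N := by
  obtain ⟨n, hn, z, hz, rfl⟩ := (Coprime.mem_sup_of_le_normalizer
    (by rw [normalizer_eq_top]; exact le_top)).1 hx
  obtain ⟨i, rfl⟩ := mem_zpowers_iff.1 hz
  have h2 : τ ^ (2 : ℤ) = 1 := by rw [zpow_two]; exact hτ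
  rcases Int.even_or_odd' i with ⟨m, rfl | rfl⟩
  · left
    rwa [zpow_mul, h2, one_zpow, mul_one]
  · right
    rwa [zpow_add, zpow_mul, h2, one_zpow, one_mul, zpow_one, mul_assoc, hτ, mul_one]

/-- A covering subgroup of the soluble kind makes `C(t)` soluble. -/
theorem isSolvable_of_covers {t : G} {M : Subgroup G} (hc : Covers t M)
    (hM : Group.IsSolvable ↥(M ⊓ centralizer ({t} : Set G))) :
    Group.IsSolvable ↥(centralizer ({t} : Set G)) := by
  haveI := hM
  set C := centralizer ({t} : Set G) with hC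
  haveI : ((oddPart t).subgroupOf C).Normal :=
    (normal_subgroupOf_iff_le_normalizer (core_le _)).2 (centralizer_le_normalizer_oddPart t)
  let f : ↥(M ⊓ C) →* ↥C ⧸ (oddPart t).subgroupOf C :=
    (QuotientGroup.mk' _).comp (inclusion inf_le_right)
  have hf : Function.Surjective f := by
    intro y
    obtain ⟨⟨c, hc'⟩, rfl⟩ := QuotientGroup.mk'_surjective _ y
    obtain ⟨o, ho, k, hk, rfl⟩ := hc.exists_mul hc'
    refine ⟨⟨k, hk⟩, QuotientGroup.eq.2 ?_⟩
    show k⁻¹ * (o * k) ∈ oddPart t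
    rw [show k⁻¹ * (o * k) = k⁻¹ * o * k⁻¹⁻¹ by group]
    exact conj_mem_oddPart (inv_mem (mem_inf.1 hk).2) ho
  haveI : Group.IsSolvable (↥C ⧸ (oddPart t).subgroupOf C) := Group.isSolvable_of_surjective hf
  exact isSolvable_of_hom (B := oddPart t) (QuotientGroup.mk' ((oddPart t).subgroupOf C))
    (fun x hx => (QuotientGroup.eq_one_iff x).1 hx) (Cfsg.Agent.S0205.result (odd_card_oddPart t))

theorem isSolvable_oddPart_sup {t : G} (ht : orderOf t = 2) :
    Group.IsSolvable ↥(oddPart t ⊔ zpowers t) := by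
  refine isSolvable_of_not_four fun h => ?_
  have h1 := h.trans (card_sup_dvd ((zpowers_le.2 (mem_centralizer_singleton_iff.2 rfl)).trans
    (centralizer_le_normalizer_oddPart t)))
  rw [Nat.card_zpowers, ht] at h1
  obtain ⟨j, hj⟩ := odd_card_oddPart t
  omega

/-- The index of a covering part in `C(t)`. -/
theorem relIndex_covers {t : G} {H : Subgroup G} (hc : Covers t H) :
    (H ⊓ centralizer ({t} : Set G)).relIndex (centralizer ({t} : Set G)) =
      (oddPart t ⊓ H).relIndex (oddPart t) := by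
  set C := centralizer ({t} : Set G) with hC
  haveI : ((oddPart t).subgroupOf C).Normal :=
    (normal_subgroupOf_iff_le_normalizer (core_le _)).2 (centralizer_le_normalizer_oddPart t)
  let f : ↥(H ⊓ C) →* ↥C ⧸ (oddPart t).subgroupOf C :=
    (QuotientGroup.mk' _).comp (inclusion inf_le_right)
  have hf : Function.Surjective f := by
    intro y
    obtain ⟨⟨c, hc'⟩, rfl⟩ := QuotientGroup.mk'_surjective _ y
    obtain ⟨o, ho, k, hk, rfl⟩ := hc.exists_mul hc'
    refine ⟨⟨k, hk⟩, QuotientGroup.eq.2 ?_⟩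
    show k⁻¹ * (o * k) ∈ oddPart t
    rw [show k⁻¹ * (o * k) = k⁻¹ * o * k⁻¹⁻¹ by group]
    exact conj_mem_oddPart (inv_mem (mem_inf.1 hk).2) ho
  have hker : f.ker = (oddPart t ⊓ H).subgroupOf (H ⊓ C) := by
    ext x
    rw [MonoidHom.mem_ker, mem_subgroupOf, mem_inf]
    exact ⟨fun h => ⟨(QuotientGroup.eq_one_iff (inclusion inf_le_right x)).1 h, (mem_inf.1 x.2).1⟩,
      fun h => (QuotientGroup.eq_one_iff (inclusion inf_le_right x)).2 h.1⟩
  have h1 := f.ker.card_mul_index
  rw [index_ker, MonoidHom.range_eq_top.2 hf, card_top, hker,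
    Nat.card_congr (subgroupOfEquivOfLe (show oddPart t ⊓ H ≤ H ⊓ C from
      le_inf inf_le_right (inf_le_left.trans (core_le _)))).toEquiv]
    at h1
  have h2 := ((oddPart t).subgroupOf C).card_mul_index
  rw [index_eq_card, Nat.card_congr (subgroupOfEquivOfLe (show oddPart t ≤ C from core_le _)).toEquiv]
    at h2
  have h3 := Coprime.card_mul_relIndex' (inf_le_right : H ⊓ C ≤ C)
  have h4 := Coprime.card_mul_relIndex' (inf_le_left : oddPart t ⊓ H ≤ oddPart t)
  change Nat.card (oddPart t) * _ = _ at h2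
  rw [← h2, ← h4, ← h1] at h3
  have hp : 0 < Nat.card ↥(oddPart t ⊓ H) * Nat.card (↥C ⧸ (oddPart t).subgroupOf C) :=
    Nat.mul_pos Nat.card_pos Nat.card_pos
  refine Nat.eq_of_mul_eq_mul_left hp ?_
  calc Nat.card ↥(oddPart t ⊓ H) * Nat.card (↥C ⧸ (oddPart t).subgroupOf C) *
        (H ⊓ C).relIndex C = _ := h3
    _ = Nat.card ↥(oddPart t ⊓ H) * Nat.card (↥C ⧸ (oddPart t).subgroupOf C) *
        (oddPart t ⊓ H).relIndex (oddPart t) := by ring

/-! ### `t` central modulo the core -/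

/-- `t` commutes with none of its other conjugates in `H`. -/
def IsolatedIn (t : G) (H : Subgroup G) : Prop :=
  ∀ g ∈ H, Commute t (g * t * g⁻¹) → g * t * g⁻¹ = t

theorem IsolatedIn.isolated {t : G} {H : Subgroup G} (h : IsolatedIn t H) (ht : orderOf t = 2)
    (htH : t ∈ H) : Cfsg.IsIsolatedInvolution (⟨t, htH⟩ : H) :=
  ⟨by rw [Subgroup.orderOf_mk]; exact ht,
    fun g hg => Subtype.ext (h g g.2 (hg.map H.subtype))⟩

theorem IsolatedIn.mono {t : G} {H K : Subgroup G} (h : IsolatedIn t K) (hle : H ≤ K) :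
    IsolatedIn t H :=
  fun g hg => h g (hle hg)

theorem IsolatedIn.centralMod {t : G} {H : Subgroup G} (h : IsolatedIn t H) (ht : orderOf t = 2)
    (htH : t ∈ H) : CentralMod t H := by
  intro x hx
  obtain ⟨o, ho, c, hcc, he⟩ := Involution.ZStar.exists_oddCore_mul_centralizer
    (Involution.ZStar.starCentral ↥H) (h.isolated ht htH) (⟨x, hx⟩ : H)
  rw [show x = (o : G) * c from congrArg Subtype.val he]
  exact mul_mem_sup ⟨o, ho, rfl⟩ ⟨c.2, mem_centralizer_singleton_iff.2
    (congrArg Subtype.val (mem_centralizer_singleton_iff.1 hcc))⟩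

theorem CentralMod.exists_mul {t : G} {H : Subgroup G} (h : CentralMod t H) {x : G} (hx : x ∈ H) :
    ∃ a ∈ core H, ∃ c ∈ H ⊓ centralizer ({t} : Set G), x = a * c := by
  obtain ⟨a, ha, c, hc, e⟩ := (Coprime.mem_sup_of_le_normalizer
    (inf_le_left.trans (le_normalizer.trans (le_normalizer_core H)))).1 (h hx)
  exact ⟨a, ha, c, hc, e.symm⟩

/-- `t` centralises `H` modulo its core. -/
theorem CentralMod.comm_mem {t : G} {H : Subgroup G} (h : CentralMod t H) (htH : t ∈ H) {x : G}
    (hx : x ∈ H) : t * x * t⁻¹ * x⁻¹ ∈ core H := by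
  obtain ⟨a, ha, c, hc, rfl⟩ := h.exists_mul hx
  have e : t * c = c * t := (mem_centralizer_singleton_iff.1 (mem_inf.1 hc).2).symm
  rw [show t * (a * c) * t⁻¹ * (a * c)⁻¹ = t * a * t⁻¹ * (t * c) * t⁻¹ * c⁻¹ * a⁻¹ by group, e,
    show t * a * t⁻¹ * (c * t) * t⁻¹ * c⁻¹ * a⁻¹ = t * a * t⁻¹ * a⁻¹ by group]
  exact mul_mem (core_conj_mem H (le_normalizer htH) ha) (inv_mem ha)

theorem CentralMod.isolatedIn {t : G} {H : Subgroup G} (h : CentralMod t H) (ht : orderOf t = 2)
    (htH : t ∈ H) : IsolatedIn t H := by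
  intro g hg hcom
  obtain ⟨htt, -⟩ := FTApps.RealGraph.invol_of_orderOf ht
  have hti : t⁻¹ = t := inv_eq_of_mul_eq_one_right htt
  have h1 : t * (g * t * g⁻¹) ∈ core H := by
    have := h.comm_mem htH hg
    rwa [show t * g * t⁻¹ * g⁻¹ = t * (g * t * g⁻¹) by rw [hti]; group] at this
  have h2 := eq_one_of_sq (odd_card_core H) h1 (by
    calc t * (g * t * g⁻¹) * (t * (g * t * g⁻¹)) = t * (g * t * g⁻¹ * t) * (g * t * g⁻¹) := by group
      _ = t * t * (g * (t * t) * g⁻¹) := by rw [← hcom.eq]; group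
      _ = 1 := by rw [htt]; group)
  exact (inv_eq_of_mul_eq_one_right h2).symm.trans hti

theorem CentralMod.mono {t : G} {H K : Subgroup G} (h : CentralMod t K) (ht : orderOf t = 2)
    (hle : H ≤ K) (htH : t ∈ H) : CentralMod t H :=
  ((h.isolatedIn ht (hle htH)).mono hle).centralMod ht htH

theorem CentralMod.oddPart_inf_le {t : G} {H : Subgroup G} (h : CentralMod t H) :
    oddPart t ⊓ H ≤ core H := by
  have hNH : core H ≤ H := core_le H
  have hnorm : oddPart t ⊓ H ≤ normalizer (core H : Set G) :=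
    inf_le_right.trans (le_normalizer.trans (le_normalizer_core H))
  refine le_sup_right.trans (le_core (N := core H ⊔ (oddPart t ⊓ H)) (sup_le hNH inf_le_right)
    (odd_card_sup (odd_card_core H) ((odd_card_oddPart t).of_dvd_nat (card_dvd_of_le inf_le_left))
      hnorm) ?_)
  intro x hx
  obtain ⟨a, ha, c, hc, rfl⟩ := h.exists_mul hx
  refine mul_mem (le_normalizer (mem_sup_left ha)) ?_
  refine mem_normalizer_fintype fun z hz => ?_
  obtain ⟨b, hb, o, ho, rfl⟩ := (Coprime.mem_sup_of_le_normalizer hnorm).1 hz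
  rw [show c * (b * o) * c⁻¹ = c * b * c⁻¹ * (c * o * c⁻¹) by group]
  exact mul_mem_sup (core_conj_mem H (le_normalizer (mem_inf.1 hc).1) hb)
    ⟨conj_mem_oddPart (mem_inf.1 hc).2 (mem_inf.1 ho).1,
      Subgroup.mul_mem _ (Subgroup.mul_mem _ (mem_inf.1 hc).1 (mem_inf.1 ho).2)
        (Subgroup.inv_mem _ (mem_inf.1 hc).1)⟩

theorem core_inf_le {t : G} {H : Subgroup G} (hc : Covers t H) :
    core H ⊓ centralizer ({t} : Set G) ≤ oddPart t :=
  le_oddPart_of_covers hc inf_le_right
    ((odd_card_core H).of_dvd_nat (card_dvd_of_le inf_le_left))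
    ((inf_le_inf_right _ (le_normalizer.trans (le_normalizer_core H))).trans
      ((inf_le_inf_left _ le_normalizer).trans inf_normalizer_le_normalizer_inf))

/-! ### The functor `Z(J)` -/

section ZJ

variable {p : ℕ} [Fact p.Prime]

theorem zj_map {X : Type u} [Group X] [Finite X] (hp : p ≠ 2) (f : X →* G)
    (hf : Function.Injective f) (P : Subgroup X) :
    Cfsg.centerThompsonOf p (P.map f) = (Cfsg.centerThompsonOf p P).map f :=
  (Fusion.GlaubermanThompson.zFunFull.{u} hp).map_inj f hf P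

theorem zj_le (hp : p ≠ 2) (P : Subgroup G) : Cfsg.centerThompsonOf p P ≤ P :=
  (Fusion.GlaubermanThompson.zFunFull.{u} hp).le P

theorem zj_ne_bot (hp : p ≠ 2) {P : Subgroup G} (hP : IsPGroup p P) (hne : P ≠ ⊥) :
    Cfsg.centerThompsonOf p P ≠ ⊥ :=
  (Fusion.GlaubermanThompson.zFunFull.{u} hp).ne_bot P hP hne

theorem normalizer_le_normalizer_zj (hp : p ≠ 2) (P : Subgroup G) :
    normalizer (P : Set G) ≤ normalizer (Cfsg.centerThompsonOf p P : Set G) :=
  (Fusion.GlaubermanThompson.zFunFull.{u} hp).normalizer_le P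

/-- Glauberman's theorem modulo `O_{p'}`. -/
theorem zj_factor_of_free {X : Type u} [Group X] [Finite X] (hp : p ≠ 2)
    (hfree : ¬ Fusion.SL2Sections.HasSL2Section p X)
    (hcq : centralizer (Cfsg.pCore p (X ⧸ Cfsg.pPrimeCore p X) : Set (X ⧸ Cfsg.pPrimeCore p X)) ≤
      Cfsg.pCore p (X ⧸ Cfsg.pPrimeCore p X)) (P : Sylow p X) (x : X) :
    ∃ o ∈ Cfsg.pPrimeCore p X,
      ∃ m ∈ normalizer (Cfsg.centerThompsonOf p (P : Subgroup X) : Set X), x = o * m := by
  set O := Cfsg.pPrimeCore p X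
  set π := QuotientGroup.mk' O
  have hsurj := QuotientGroup.mk'_surjective O
  have hOc : (Nat.card O).Coprime p := CfsgLib.Solvable.Cores.coprime_card_pPrimeCore p
  have hn := Fusion.ZJFull.centerThompson_normal hp hcq
    (fun Q _ hQ => Fusion.SL2Sections.isPStableOn_of_free hp
      (fun h => hfree (h.of_surjective π hsurj)) Q hQ) (P.mapSurjective hsurj)
  have hZ : Cfsg.centerThompsonOf p ((P.mapSurjective hsurj : Sylow p (X ⧸ O)) : Subgroup (X ⧸ O)) =
      (Cfsg.centerThompsonOf p (P : Subgroup X)).map π := by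
    have hinj : Function.Injective (π.comp (P : Subgroup X).subtype) := by
      rw [← MonoidHom.ker_eq_bot_iff, eq_bot_iff]
      intro y hy
      refine mem_bot.2 (Subtype.ext (mem_bot.1
        (CfsgLib.Components.inf_eq_bot_of_pGroup_coprime P.2 hOc ▸
          (⟨y.2, (QuotientGroup.eq_one_iff _).1 hy⟩ : (y : X) ∈ (P : Subgroup X) ⊓ O))))
    have h1 := zj_map hp (π.comp (P : Subgroup X).subtype) hinj ⊤
    have h2 := zj_map hp (P : Subgroup X).subtype (P : Subgroup X).subtype_injective ⊤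
    rw [← MonoidHom.range_eq_map, range_subtype] at h2
    rw [← Subgroup.map_map, ← MonoidHom.range_eq_map, range_subtype] at h1
    rw [Sylow.coe_mapSurjective, h1, h2, Subgroup.map_map]
  rw [hZ, ← normalizer_eq_top_iff, Fusion.Quotient.normalizer_map hOc
    (P.2.to_le (zj_le hp _))] at hn
  obtain ⟨m, hm, hme⟩ := (hn ▸ mem_top (π x) :
    π x ∈ (normalizer (Cfsg.centerThompsonOf p (P : Subgroup X) : Set X)).map π)
  refine ⟨x * m⁻¹, ?_, m, hm, (inv_mul_cancel_right x m).symm⟩
  rw [← QuotientGroup.eq_one_iff]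
  show π (x * m⁻¹) = 1
  rw [map_mul, map_inv, hme, mul_inv_cancel]

/-- A normaliser of a nontrivial `p`-subgroup is proper. -/
theorem normalizer_ne_top [IsSimpleGroup G] (h2 : 2 ∣ Nat.card G) (hp : p ≠ 2) {Q : Subgroup G}
    (hQ : IsPGroup p Q) (hne : Q ≠ ⊥) : normalizer (Q : Set G) ≠ ⊤ := by
  intro h
  rcases (normalizer_eq_top_iff.1 h).eq_bot_or_eq_top with e | rfl
  · exact hne e
  · obtain ⟨k, hk⟩ := IsPGroup.iff_card.1 hQ
    rw [← card_top, hk] at h2
    exact hp ((Nat.prime_dvd_prime_iff_eq Nat.prime_two Fact.out).1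
      (Nat.prime_two.dvd_of_dvd_pow h2)).symm

/-- A `p`-subgroup above a Sylow subgroup of an overgroup equals it. -/
theorem eq_of_le_pgroup {W R Y : Subgroup G} (hYW : Y ≤ W) (hY : IsPGroup p Y) (hRY : R ≤ Y)
    (hfull : ¬ p ∣ R.relIndex W) : Y = R := by
  obtain ⟨k, hk⟩ := IsPGroup.iff_card.1 hY
  obtain ⟨i, -, hi⟩ := (Nat.dvd_prime_pow Fact.out).1
    (hk ▸ (Dvd.intro_left _ (Coprime.card_mul_relIndex' hRY)) : R.relIndex Y ∣ p ^ k)
  have hdvd : R.relIndex Y ∣ R.relIndex W := Dvd.intro _ (relIndex_mul_relIndex R Y W hRY hYW)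
  refine le_antisymm (relIndex_eq_one.1 ?_) hRY
  rcases Nat.eq_zero_or_pos i with rfl | hpos
  · simpa using hi
  · exact absurd ((dvd_pow_self p hpos.ne').trans (hi ▸ hdvd)) hfull

end ZJ

namespace Setting

variable {S : Subgroup G} (hS : Setting G S)
include hS

theorem not_hasSL2Section {p : ℕ} [Fact p.Prime] (hp : p ≠ 2) :
    ¬ Fusion.SL2Sections.HasSL2Section p G := by
  rintro ⟨L, f, hf⟩
  haveI : Fact (Nat.Prime 2) := ⟨Nat.prime_two⟩
  obtain ⟨x, y, hxy⟩ := ZMod.sq_add_sq p (-1)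
  have hneg : (-1 : SL(2, ZMod p)) ≠ 1 := fun e => by
    have h1 := congrArg (fun M : SL(2, ZMod p) => (M : Matrix (Fin 2) (Fin 2) (ZMod p)) 0 0) e
    simp only [Matrix.SpecialLinearGroup.coe_neg, Matrix.SpecialLinearGroup.coe_one,
      Matrix.neg_apply, Matrix.one_apply_eq] at h1
    exact hp ((Nat.prime_dvd_prime_iff_eq Fact.out Nat.prime_two).1
      ((CharP.cast_eq_zero_iff (ZMod p) p 2).1 (by linear_combination -h1)))
  set i : SL(2, ZMod p) := ⟨!![0, 1; -1, 0], by simp [Matrix.det_fin_two]⟩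
  have hii : i * i = -1 := by
    refine Subtype.ext ?_
    show !![(0 : ZMod p), 1; -1, 0] * !![(0 : ZMod p), 1; -1, 0] = -(1 : Matrix (Fin 2) (Fin 2) (ZMod p))
    ext a b; fin_cases a <;> fin_cases b <;> simp
  obtain ⟨a, ha⟩ := hf i
  obtain ⟨m, k, ⟨j, hj⟩, hk⟩ := FTApps.RealGraph.exists_two_part a
  have h2 : IsPGroup 2 (zpowers ((a ^ m : L) : G)) := by
    obtain ⟨i, -, hi⟩ := (Nat.dvd_prime_pow Nat.prime_two).1 (orderOf_dvd_of_pow_eq_one hk)
    exact IsPGroup.of_card (n := i) (by rw [Nat.card_zpowers, Subgroup.orderOf_coe, hi])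
  obtain ⟨P, hP⟩ := hS.sylow
  obtain ⟨c, hc⟩ := Involution.Basic.exists_conj_le P h2
  have hm : (a ^ m) * (a ^ m) = 1 := by
    have hcS : c * ((a ^ m : L) : G) * c⁻¹ ∈ S := by rw [← hP]; exact hc _ (mem_zpowers _)
    have h3 := hS.mul_self hcS
    have h4 : c * (((a ^ m : L) : G) * (a ^ m : L)) * c⁻¹ = 1 := by
      rw [← h3]; group
    exact Subtype.ext (conj_eq_one_iff.1 h4)
  have h5 := congrArg f hm
  rw [map_mul, map_pow, ha, hj, ← pow_add, map_one,
    show 2 * j + 1 + (2 * j + 1) = 2 * (2 * j + 1) by ring, pow_mul, pow_two, hii,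
    Odd.neg_one_pow ⟨j, rfl⟩] at h5
  exact hneg h5

/-- An element of `N(S)` fixing `t` acts with exponent three. -/
theorem pow_three_mem_centralizer {t n : G} (ht : t ∈ S) (ht1 : t ≠ 1)
    (hn : n ∈ normalizer (S : Set G)) (hnt : n ∈ centralizer ({t} : Set G)) :
    n ^ 3 ∈ centralizer (S : Set G) := by
  by_contra hne
  have hmap : ∀ s ∈ S, n * s * n⁻¹ ∈ S := fun s hs => (mem_normalizer_iff.1 hn s).1 hs
  have hnt' : n * t * n⁻¹ = t := by
    rw [mem_centralizer_singleton_iff.1 hnt, mul_inv_cancel_right]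
  have htt := hS.mul_self ht
  have hn2 : n * n ∉ centralizer (S : Set G) := fun h2 => hne (by
    rw [pow_three]
    exact mul_mem (hS.mem_centralizer_of_sq hn h2) h2)
  -- an element moved outside its coset
  obtain ⟨s, hs, hs1, hst, hne1, hne2⟩ : ∃ s ∈ S, s ≠ 1 ∧ s ≠ t ∧ n * s * n⁻¹ ≠ s ∧
      n * s * n⁻¹ ≠ t * s := by
    by_contra! hall
    refine hn2 (mem_centralizer_iff.2 fun s hs => ?_)
    have key : n * (n * s * n⁻¹) * n⁻¹ = s := by
      by_cases hs1 : s = 1
      · subst hs1; group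
      by_cases hst : s = t
      · subst hst; rw [hnt', hnt']
      by_cases he : n * s * n⁻¹ = s
      · rw [he, he]
      rw [hall s hs hs1 hst he, show n * (t * s) * n⁻¹ = n * t * n⁻¹ * (n * s * n⁻¹) by group, hnt',
        hall s hs hs1 hst he, ← mul_assoc, htt, one_mul]
    calc s * (n * n) = n * (n * s * n⁻¹) * n⁻¹ * (n * n) := by rw [key]
      _ = n * n * s := by group
  set u := n * s * n⁻¹ with hu
  have huS : u ∈ S := hmap s hs
  set w := n * u * n⁻¹ with hw
  have hwS : w ∈ S := hmap u huS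
  -- the four-group `⟨t, s⟩`
  set V := zpowers t ⊔ zpowers s with hV
  have hVS : V ≤ S := sup_le (zpowers_le.2 ht) (zpowers_le.2 hs)
  have hVmem : ∀ v ∈ V, v = 1 ∨ v = t ∨ v = s ∨ v = t * s := by
    intro v hv
    obtain ⟨a, ha, b, hb, rfl⟩ := (Coprime.mem_sup_of_le_normalizer (N := zpowers t)
      (H := zpowers s) ((zpowers_le.2 hs).trans (hS.le_centralizer_self.trans
        ((centralizer_le (SetLike.coe_subset_coe.2 (zpowers_le.2 ht))).trans
          (centralizer_le_normalizer _))))).1 hv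
    have h2 : ∀ z : G, z * z = 1 → ∀ y ∈ zpowers z, y = 1 ∨ y = z := by
      intro z hz y hy
      rcases mem_or_mul_mem (N := (⊥ : Subgroup G)) hz (mem_sup_right hy) with h | h
      · exact Or.inl (mem_bot.1 h)
      · exact Or.inr ((eq_inv_of_mul_eq_one_left (mem_bot.1 h)).trans
          (inv_eq_of_mul_eq_one_right hz))
    rcases h2 t htt a ha with rfl | rfl <;>
      rcases h2 s (hS.mul_self hs) b hb with rfl | rfl <;> simp
  have huV : u ∉ V := fun h => by
    rcases hVmem u h with e | e | e | e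
    · exact hs1 (conj_eq_one_iff.1 e)
    · exact hst (mul_left_cancel (mul_right_cancel ((show n * s * n⁻¹ = t from e).trans hnt'.symm)))
    · exact hne1 e
    · exact hne2 e
  have hinj : ∀ a b : G, n * a * n⁻¹ = n * b * n⁻¹ → a = b := fun a b e =>
    mul_left_cancel (mul_right_cancel e)
  have hw' : w * u ∈ V ∨ w ∈ V := by
    by_cases h : w ∈ V
    · exact Or.inr h
    refine Or.inl ?_
    have hV4 : 4 ≤ Nat.card V := by
      have h := Set.ncard_le_ncard (s := ({1, t, s, t * s} : Set G)) (t := (V : Set G)) (by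
        rintro x (rfl | rfl | rfl | rfl)
        exacts [one_mem V, mem_sup_left (mem_zpowers _), mem_sup_right (mem_zpowers _),
          mul_mem (mem_sup_left (mem_zpowers _)) (mem_sup_right (mem_zpowers _))]) (Set.toFinite _)
      rw [← Nat.card_coe_set_eq (V : Set G), SetLike.coe_sort_coe] at h
      refine le_trans (le_of_eq ?_) h
      rw [Set.ncard_insert_of_notMem, Set.ncard_insert_of_notMem, Set.ncard_pair]
      · exact fun e => ht1 (mul_eq_right.1 e.symm)
      · simp only [Set.mem_insert_iff, Set.mem_singleton_iff, not_or]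
        exact ⟨hst.symm, fun e => hs1 (mul_eq_left.1 e.symm)⟩
      · simp only [Set.mem_insert_iff, Set.mem_singleton_iff, not_or]
        exact ⟨ht1.symm, hs1.symm, fun e => hst (by
          rw [eq_inv_of_mul_eq_one_right e.symm, hS.inv_eq ht])⟩
    have hi : (V.subgroupOf S).index = 2 := by
      have h1 := Coprime.card_mul_relIndex' (A := V) hVS
      rw [hS.card] at h1
      have h2 := Nat.mul_le_mul_right (V.relIndex S) hV4
      have h3 : (V.subgroupOf S).index ≠ 1 := fun h' => huV (by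
        have := index_eq_one.1 h' ▸ mem_top (⟨u, huS⟩ : S); exact this)
      have h4 : (V.subgroupOf S).index ≠ 0 := index_ne_zero_of_finite
      rw [relIndex] at h1 h2
      omega
    exact (mul_mem_iff_of_index_two hi (a := ⟨w, hwS⟩) (b := ⟨u, huS⟩)).2 (iff_of_false h huV)
  have hwu : ∀ z, w * u = z → w = z * u := fun z e => by
    rw [← e, mul_assoc, hS.mul_self huS, mul_one]
  have hfix4 : ∀ s' : G, (s' = s ∨ s' = t * s) → w = s' → False := by
    intro s' hs' e
    refine hn2 (hS.mem_centralizer_of_sq (mul_mem hn hn) (mem_centralizer_iff.2 fun z hz => ?_))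
    have hconj : ∀ z : G, n * n * (n * n) * z * (n * n * (n * n))⁻¹ =
        n * (n * (n * (n * z * n⁻¹) * n⁻¹) * n⁻¹) * n⁻¹ := fun z => by group
    have hws : n * (n * w * n⁻¹) * n⁻¹ = s ∧ n * (n * (n * w * n⁻¹) * n⁻¹) * n⁻¹ = u := by
      have h1 : n * (n * w * n⁻¹) * n⁻¹ = s := by
        rcases hs' with rfl | rfl
        · rw [e, ← hu, ← hw, e]
        · rw [e, show n * (n * (t * s) * n⁻¹) * n⁻¹ =
            n * (n * t * n⁻¹) * n⁻¹ * (n * (n * s * n⁻¹) * n⁻¹) by group, hnt', hnt', ← hu, ← hw, e,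
            ← mul_assoc, htt, one_mul]
      exact ⟨h1, by rw [h1, hu]⟩
    have fs : Commute (n * n * (n * n)) s := by
      refine mul_inv_eq_iff_eq_mul.1 ((hconj s).trans ?_)
      rw [← hu, ← hw]; exact hws.1
    have fu : Commute (n * n * (n * n)) u := by
      refine mul_inv_eq_iff_eq_mul.1 ((hconj u).trans ?_)
      rw [← hw]; exact hws.2
    exact (mem_centralizer_iff.1 (hS.centralizes_of_fixes_two
      (mul_mem (mul_mem hn hn) (mul_mem hn hn)) hs huS hs1 (fun e => hs1 (conj_eq_one_iff.1 e))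
      hne1.symm fs fu) z hz)
  rcases hw' with h | h
  · rcases hVmem _ h with e | e | e | e
    · exact hne1 (hinj u s ((hwu 1 e).trans (one_mul u)))
    · refine hne2 (hinj u (t * s) ((hwu t e).trans ?_))
      rw [show n * (t * s) * n⁻¹ = n * t * n⁻¹ * u by rw [hu]; group, hnt']
    all_goals
      have hmul : ∀ a b : G, n * (a * b) * n⁻¹ = n * a * n⁻¹ * (n * b * n⁻¹) := fun a b => by group
      have hcube : n * w * n⁻¹ = s := by
        first
          | rw [hwu s e, hmul, ← hu, ← hw, hwu s e, (hS.commute hs huS).eq, ← mul_assoc,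
              hS.mul_self huS, one_mul]
          | rw [hwu (t * s) e, hmul, hmul, hnt', ← hu, ← hw, hwu (t * s) e,
              (hS.commute (mul_mem ht hs) huS).eq, mul_assoc t u, ← mul_assoc u u,
              hS.mul_self huS, one_mul, ← mul_assoc, htt, one_mul]
      refine hne (hS.centralizes_of_fixes_two (pow_mem hn 3) hs ht hs1 ht1 hst
        (mul_inv_eq_iff_eq_mul.1 (((by rw [hw, hu, pow_three]; group :
          n ^ 3 * s * (n ^ 3)⁻¹ = n * w * n⁻¹)).trans hcube))
        ((show Commute n t from mem_centralizer_singleton_iff.1 hnt).pow_left 3))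
  · rcases hVmem _ h with e | e | e | e
    · exact (fun e => hs1 (conj_eq_one_iff.1 e) : u ≠ 1) (conj_eq_one_iff.1 e)
    · exact huV ((hinj u t (e.trans hnt'.symm)).symm ▸ mem_sup_left (mem_zpowers t))
    · exact hfix4 _ (Or.inl rfl) e
    · exact hfix4 _ (Or.inr rfl) e

/-- A non-soluble centraliser of `R` in `C(t)` makes `R` central. -/
theorem centralPart_of_not_solvable {t : G} (ht : t ∈ S) (ht1 : t ≠ 1) {R : Subgroup G}
    (hR : R ≤ centralizer ({t} : Set G)) (hSR : S ≤ normalizer (R : Set G))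
    (h : ¬ Group.IsSolvable ↥(centralizer ({t} : Set G) ⊓ centralizer (R : Set G))) :
    CentralPart S t R := by
  haveI : Fact (Nat.Prime 2) := ⟨Nat.prime_two⟩
  set C := centralizer ({t} : Set G) with hC
  set L := C ⊓ centralizer (R : Set G) with hL
  set N := C ⊓ normalizer (R : Set G) with hN
  have hLN : L ≤ N := inf_le_inf_left _ (centralizer_le_normalizer _)
  have hNL : N ≤ normalizer (L : Set G) :=
    (inf_le_inf le_normalizer (le_normalizer_centralizer R)).trans inf_normalizer_le_normalizer_inf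
  have htC : t ∈ C := mem_centralizer_singleton_iff.2 rfl
  have htL : t ∈ L := ⟨htC, mem_centralizer_iff.2 fun r hr =>
    mem_centralizer_singleton_iff.1 (hR hr)⟩
  -- the Sylow 2-subgroup
  have h8 : 8 ∣ Nat.card L := by
    by_contra h8
    refine h ?_
    have htn : ((zpowers t).subgroupOf L).Normal :=
      (normal_subgroupOf_iff_le_normalizer (zpowers_le.2 htL)).2 fun c hc =>
        centralizer_le_normalizer _ (mem_centralizer_iff.2 fun z hz => by
          obtain ⟨i, rfl⟩ := mem_zpowers_iff.1 hz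
          exact (Commute.zpow_left
            (mem_centralizer_singleton_iff.1 (mem_inf.1 hc).1).symm i).eq)
    haveI := htn
    have h4 := ((zpowers t).subgroupOf L).card_mul_index
    rw [index_eq_card, Nat.card_congr (subgroupOfEquivOfLe (zpowers_le.2 htL)).toEquiv,
      Nat.card_zpowers, hS.orderOf_two ht ht1] at h4
    haveI : Group.IsSolvable (↥L ⧸ (zpowers t).subgroupOf L) := isSolvable_of_not_four fun h4' =>
      h8 (h4 ▸ mul_dvd_mul_left 2 h4')
    exact isSolvable_of_hom (B := zpowers t) (QuotientGroup.mk' ((zpowers t).subgroupOf L))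
      (fun x hx => (QuotientGroup.eq_one_iff x).1 hx) (Coprime.isSolvable_zpowers t)
  obtain ⟨X, hX⟩ := Sylow.exists_subgroup_card_pow_prime 2 (n := 3) (G := L) h8
  obtain ⟨y, hy, hye⟩ := hS.exists_conj_eq (H := N) (le_inf (hS.le_centralizer ht) hSR)
    ((map_subtype_le X).trans hLN) (by rw [Coprime.card_map_subtype, hX]; norm_num)
  have hSL : S ≤ L := fun s hs => (mem_normalizer_iff.1 (hNL hy) s).2
    (map_subtype_le X (hye.le (conj_mem_conjMap hs)))
  -- a rotation
  by_cases hrot : ∀ n ∈ L, n ∈ normalizer (S : Set G) → n ∈ centralizer (S : Set G)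
  · refine absurd ?_ h
    have hcen : ∀ s ∈ S, ∀ x ∈ L, s * x * s⁻¹ * x⁻¹ ∈ core L := by
      intro s hs x hx
      by_cases hs1 : s = 1
      · subst hs1; simp
      obtain ⟨P, hP⟩ := hS.sylow
      have ho : orderOf (⟨s, hSL hs⟩ : L) = 2 := by
        rw [Subgroup.orderOf_mk]; exact hS.orderOf_two hs hs1
      have hiso : Cfsg.IsIsolatedInvolution (⟨s, hSL hs⟩ : L) := by
        refine (Involution.Isolated.isolated_iff_sylow (P := P.subtype (hP.trans_le hSL)) ho
          (show s ∈ (P : Subgroup G) from hP ▸ hs)).2 fun g hg => Subtype.ext ?_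
        have hgS : (g : G) * s * (g : G)⁻¹ ∈ S := hP ▸ hg
        obtain ⟨n, hn, hnN, hne⟩ := hS.exists_normalizer_conj_in hSL hs hgS g.2 rfl
        refine hne.symm.trans ?_
        rw [← mem_centralizer_iff.1 (hrot n hn hnN) s hs, mul_inv_cancel_right]
      exact ⟨_, Involution.ZStar.comm_mem_oddCore hiso ⟨x, hx⟩, rfl⟩
    set W := core L ⊔ S with hW
    have hnS : S ≤ normalizer (core L : Set G) := hSL.trans (le_normalizer.trans (le_normalizer_core L))
    have hWL : W ≤ L := sup_le (core_le L) hSL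
    haveI : (W.subgroupOf L).Normal := (normal_subgroupOf_iff_le_normalizer hWL).2 fun x hx => by
      refine mem_normalizer_fintype fun z hz => ?_
      obtain ⟨a, ha, s, hs, rfl⟩ := (Coprime.mem_sup_of_le_normalizer hnS).1 hz
      rw [show x * (a * s) * x⁻¹ = x * a * x⁻¹ * (s * x * s⁻¹ * x⁻¹)⁻¹ * s by group]
      exact mul_mem_sup (mul_mem (core_conj_mem L (le_normalizer hx) ha)
        (inv_mem (hcen s hs x hx))) hs
    haveI : Group.IsSolvable (↥L ⧸ W.subgroupOf L) := isSolvable_of_not_four fun h4 => by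
      have h1 := (W.subgroupOf L).card_mul_index
      rw [index_eq_card, Nat.card_congr (subgroupOfEquivOfLe hWL).toEquiv] at h1
      have h2 : 8 ∣ Nat.card W := hS.card ▸ card_dvd_of_le le_sup_right
      exact hS.not_sixteen ((Dvd.intro 2 rfl).trans
        ((mul_dvd_mul h2 h4).trans ((dvd_of_eq h1).trans (card_subgroup_dvd_card L))))
    refine isSolvable_of_hom (B := W) (QuotientGroup.mk' (W.subgroupOf L))
      (fun x hx => (QuotientGroup.eq_one_iff x).1 hx) ?_
    haveI : ((core L).subgroupOf W).Normal :=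
      (normal_subgroupOf_iff_le_normalizer le_sup_left).2 (sup_le le_normalizer hnS)
    haveI : Group.IsSolvable (↥W ⧸ (core L).subgroupOf W) := by
      refine Group.isSolvable_of_comm fun a b => ?_
      obtain ⟨⟨a, ha⟩, rfl⟩ := QuotientGroup.mk'_surjective _ a
      obtain ⟨⟨b, hb⟩, rfl⟩ := QuotientGroup.mk'_surjective _ b
      rw [← map_mul, ← map_mul]
      refine QuotientGroup.eq.2 ?_
      show (a * b)⁻¹ * (b * a) ∈ core L
      obtain ⟨a', ha', s, hs, rfl⟩ := (Coprime.mem_sup_of_le_normalizer hnS).1 ha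
      obtain ⟨b', hb', s', hs', rfl⟩ := (Coprime.mem_sup_of_le_normalizer hnS).1 hb
      haveI : ((core L).subgroupOf W).Normal := inferInstance
      rw [show (a' * s * (b' * s'))⁻¹ * (b' * s' * (a' * s)) =
        s'⁻¹ * (b'⁻¹ * (s⁻¹ * (a'⁻¹ * b') * s⁻¹⁻¹) * (s⁻¹ * s' * a' * (s⁻¹ * s')⁻¹)) * s'⁻¹⁻¹ *
          (s'⁻¹ * (s⁻¹ * (s' * s))) by group,
        show s'⁻¹ * (s⁻¹ * (s' * s)) = 1 by rw [(hS.commute hs' hs).eq]; group, mul_one]
      have hc : ∀ z ∈ S, ∀ q ∈ core L, z * q * z⁻¹ ∈ core L := fun z hz q hq =>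
        (mem_normalizer_iff.1 (hnS hz) q).1 hq
      exact hc _ (inv_mem hs') _ (mul_mem (mul_mem (inv_mem hb')
        (hc _ (inv_mem hs) _ (mul_mem (inv_mem ha') hb'))) (hc _ (mul_mem (inv_mem hs) hs') _ ha'))
    exact isSolvable_of_hom (B := core L) (QuotientGroup.mk' ((core L).subgroupOf W))
      (fun x hx => (QuotientGroup.eq_one_iff x).1 hx) (Cfsg.Agent.S0205.result (odd_card_core L))
  push Not at hrot
  obtain ⟨n, hn, hnN, hnC⟩ := hrot
  obtain ⟨a, b, hb, he⟩ := Nat.exists_eq_pow_mul_and_not_dvd (orderOf_pos n).ne' 3 (by norm_num)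
  refine ⟨fun s hs => (mem_inf.1 (hSL hs)).2, n ^ b, ?_, pow_mem (mem_inf.1 hn).2 b,
    pow_mem hnN b, fun hmem => hnC ?_, a, ?_⟩
  · exact ((show Commute n t from mem_centralizer_singleton_iff.1 (mem_inf.1 hn).1).pow_left b).symm
  · have h3 := hS.pow_three_mem_centralizer ht ht1 hnN (mem_inf.1 hn).1
    have hg : Nat.gcd 3 b = 1 := (Nat.Prime.coprime_iff_not_dvd (by norm_num)).2 hb
    rw [show n = n ^ ((Nat.gcd 3 b : ℕ) : ℤ) by rw [hg]; simp, Nat.gcd_eq_gcd_ab, zpow_add,
      zpow_mul, zpow_mul, zpow_natCast, zpow_natCast]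
    exact mul_mem (zpow_mem h3 _) (zpow_mem hmem _)
  · have hb0 : b ≠ 0 := fun e => hb (e ▸ dvd_zero 3)
    rw [orderOf_pow' n hb0, he, Nat.gcd_eq_right (dvd_mul_left b _),
      Nat.mul_div_cancel _ (Nat.pos_of_ne_zero hb0)]

/-- A normal subgroup of a covering group meets `C(t)` inside `O(C(t))⟨t⟩` or has soluble
quotient there. -/
theorem le_or_solvable {t : G} (ht : t ∈ S) (ht1 : t ≠ 1) {H K : Subgroup G} (hcov : Covers t H)
    (hKH : K ≤ H) (hHK : H ≤ normalizer (K : Set G)) :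
    K ⊓ centralizer ({t} : Set G) ≤ oddPart t ⊔ zpowers t ∨
      ∀ M ≤ H ⊓ centralizer ({t} : Set G),
        Group.IsSolvable ↥(M ⊓ K) → Group.IsSolvable ↥M := by
  set C := centralizer ({t} : Set G) with hC
  set K0 := K ⊓ C with hK0
  set N := oddPart t ⊔ K0 with hN
  by_cases hle : K0 ≤ oddPart t ⊔ zpowers t
  · exact Or.inl hle
  right
  intro M hM hMK
  have hHn : H ⊓ C ≤ normalizer (K0 : Set G) :=
    (inf_le_inf hHK le_normalizer).trans inf_normalizer_le_normalizer_inf
  have hNC : N ≤ C := sup_le (core_le _) inf_le_right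
  have hCN : C ≤ normalizer (N : Set G) := by
    intro c hc
    obtain ⟨o, ho, k, hk, rfl⟩ := hcov.exists_mul hc
    refine mul_mem (le_normalizer (mem_sup_left ho)) (mem_normalizer_fintype fun z hz => ?_)
    have hmap : N.map (MulAut.conj k).toMonoidHom ≤ N := by
      rw [hN, Subgroup.map_sup]
      refine sup_le_sup ?_ ?_
      · rintro _ ⟨w, hw, rfl⟩
        exact conj_mem_oddPart (mem_inf.1 hk).2 hw
      · rintro _ ⟨w, hw, rfl⟩
        exact (mem_normalizer_iff.1 (hHn hk) w).1 hw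
    exact hmap ⟨z, hz, rfl⟩
  haveI : (N.subgroupOf C).Normal := (normal_subgroupOf_iff_le_normalizer hNC).2 hCN
  haveI : Group.IsSolvable (↥C ⧸ N.subgroupOf C) :=
    hS.isSolvable_quotient ht ht1 (QuotientGroup.mk' (N.subgroupOf C))
      (QuotientGroup.mk'_surjective _) (by
        rw [QuotientGroup.ker_mk', map_subgroupOf_eq_of_le hNC]
        exact fun h => hle (le_sup_right.trans h))
  refine isSolvable_of_hom (B := M ⊓ N)
    ((QuotientGroup.mk' (N.subgroupOf C)).comp (inclusion (hM.trans inf_le_right)))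
    (fun x hx => ⟨x.2, (QuotientGroup.eq_one_iff (inclusion (hM.trans inf_le_right) x)).1 hx⟩) ?_
  -- the part inside `N`
  set T := (oddPart t ⊓ H) ⊔ K0 with hT
  have hK0n : K0 ≤ normalizer ((oddPart t ⊓ H : Subgroup G) : Set G) := fun k hk =>
    inf_normalizer_le_normalizer_inf ⟨centralizer_le_normalizer_oddPart t (mem_inf.1 hk).2,
      le_normalizer (hKH (mem_inf.1 hk).1)⟩
  have hTH : T ≤ H ⊓ C := sup_le (le_inf inf_le_right (inf_le_left.trans (core_le _)))
    (inf_le_inf_right _ hKH)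
  haveI : (K0.subgroupOf T).Normal :=
    (normal_subgroupOf_iff_le_normalizer le_sup_right).2 (hTH.trans hHn)
  haveI : Group.IsSolvable (↥T ⧸ K0.subgroupOf T) := Cfsg.Agent.S0205.result (by
    have h1 := (K0.subgroupOf T).card_mul_index
    rw [index_eq_card, Nat.card_congr (subgroupOfEquivOfLe (le_sup_right : K0 ≤ T)).toEquiv] at h1
    have h2 : Nat.card K0 * Nat.card (↥T ⧸ K0.subgroupOf T) ∣
        Nat.card K0 * Nat.card ↥(oddPart t ⊓ H) := by
      rw [h1, mul_comm]; exact card_sup_dvd hK0n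
    exact ((odd_card_oddPart t).of_dvd_nat (card_dvd_of_le inf_le_left)).of_dvd_nat
      (Nat.dvd_of_mul_dvd_mul_left Nat.card_pos h2))
  have hle2 : M ⊓ N ≤ T := by
    intro z hz
    obtain ⟨o, ho, k, hk, rfl⟩ := (Coprime.mem_sup_of_le_normalizer
      (inf_le_right.trans (centralizer_le_normalizer_oddPart t))).1 (mem_inf.1 hz).2
    refine mul_mem_sup ⟨ho, ?_⟩ hk
    simpa using mul_mem (mem_inf.1 (hM (mem_inf.1 hz).1)).1 (inv_mem (hKH (mem_inf.1 hk).1))
  exact isSolvable_of_hom (B := M ⊓ K) ((QuotientGroup.mk' (K0.subgroupOf T)).comp (inclusion hle2))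
    (fun x hx => ⟨(mem_inf.1 x.2).1,
      (mem_inf.1 ((QuotientGroup.eq_one_iff (inclusion hle2 x)).1 hx :
        (x : G) ∈ K0)).1⟩) hMK

/-- Inside a covering subgroup with `t` central modulo the core, the normaliser of `Z(J(P))`
covers. -/
theorem covers_normalizer_zj {p : ℕ} [Fact p.Prime] (hp : p ≠ 2) {t : G} (ht : t ∈ S) (ht1 : t ≠ 1)
    (hns : ¬ Group.IsSolvable ↥(centralizer ({t} : Set G))) {R : Subgroup G}
    (hR : PartSylow S p t R) (hncp : ¬ CentralPart S t R) {H : Subgroup G} (htH : t ∈ H)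
    (hcov : Covers t H) (hcm : CentralMod t H) (hRH : R ≤ H) (P : Sylow p H)
    (htP : t ∈ normalizer (((P : Subgroup H).map H.subtype : Subgroup G) : Set G)) :
    Covers t (normalizer
      (Cfsg.centerThompsonOf p ((P : Subgroup H).map H.subtype : Subgroup G) : Set G)) := by
  set C := centralizer ({t} : Set G) with hC
  have ht2 := hS.orderOf_two ht ht1
  set A0 := Cfsg.pPrimeCore 2 ↥H with hA0
  set F := Cfsg.pPrimeCore p ↥H with hF
  set π := QuotientGroup.mk' F with hπ
  have hsurj := QuotientGroup.mk'_surjective F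
  set Ab := A0.map π with hAb
  haveI hAbn : Ab.Normal := (Solvable.Cores.pPrimeCore_normal 2).map π hsurj
  set U := Cfsg.pCore p (↥H ⧸ F) ⊓ Ab with hU
  haveI : U.Normal := Subgroup.normal_inf_normal _ _
  set K2 := (centralizer (Ab : Set (↥H ⧸ F))).comap π with hK2
  set Y := (centralizer (U : Set (↥H ⧸ F))).comap π with hY
  haveI : K2.Normal := Normal.comap inferInstance π
  haveI : Y.Normal := Normal.comap inferInstance π
  have hodd : Odd (Nat.card Ab) := by
    have : Odd (Nat.card A0) := Nat.coprime_two_right.1 (Solvable.Cores.coprime_card_pPrimeCore 2)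
    exact this.of_dvd_nat (card_map_dvd _ _)
  have hbot : Cfsg.pPrimeCore p (↥H ⧸ F) = ⊥ := Components.pPrimeCore_quotient_eq_bot
  haveI : Group.IsSolvable ↥Ab := Cfsg.Agent.S0205.result hodd
  -- `C_A(U) ≤ U`
  have hcA : ∀ v ∈ Ab, v ∈ centralizer (U : Set (↥H ⧸ F)) → v ∈ U := by
    have hpp : Cfsg.pPrimeCore p ↥Ab = ⊥ := by
      haveI : ((Cfsg.pPrimeCore p ↥Ab).map Ab.subtype).Normal := inferInstance
      have h1 : (Cfsg.pPrimeCore p ↥Ab).map Ab.subtype ≤ Cfsg.pPrimeCore p (↥H ⧸ F) :=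
        Solvable.Cores.le_pPrimeCore (by
          rw [card_map_of_injective Ab.subtype_injective]
          exact Solvable.Cores.coprime_card_pPrimeCore p)
      rw [hbot, le_bot_iff] at h1
      exact (map_eq_bot_iff_of_injective _ Ab.subtype_injective).1 h1
    haveI : ((Cfsg.pCore p ↥Ab).map Ab.subtype).Normal := inferInstance
    have hle : (Cfsg.pCore p ↥Ab).map Ab.subtype ≤ U :=
      le_inf (Solvable.Cores.le_pCore ((Solvable.Cores.isPGroup_pCore p).map _)) (map_subtype_le _)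
    intro v hv hvc
    have := Fusion.PSolvable.centralizer_pCore_le Fusion.PSolvable.psolvable_of_solvable hpp
      (x := (⟨v, hv⟩ : ↥Ab)) (mem_centralizer_iff.2 fun w hw =>
        Subtype.ext (mem_centralizer_iff.1 hvc _ (hle (mem_map_of_mem _ hw))))
    exact hle (mem_map_of_mem Ab.subtype this)
  -- three subgroups
  have hYK : ⁅Y, Y⁆ ≤ K2 := by
    set Yb := centralizer (U : Set (↥H ⧸ F))
    have hUY : ⁅U, Yb⁆ = ⊥ := by
      rw [commutator_comm, commutator_eq_bot_iff_le_centralizer]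
    have h1 : ⁅⁅Ab, U⁆, Yb⁆ = ⊥ := le_bot_iff.1
      ((commutator_mono (commutator_le_right Ab U) le_rfl).trans hUY.le)
    have h2 : ⁅⁅Yb, Ab⁆, U⁆ = ⊥ :=
      commutator_commutator_eq_bot_of_rotate h1 (by rw [hUY, commutator_bot_left])
    have h3 : ⁅Yb, Ab⁆ ≤ U := fun v hv => hcA v (commutator_le_right Yb Ab hv)
      (commutator_eq_bot_iff_le_centralizer.1 h2 hv)
    have h4 : ⁅⁅Yb, Ab⁆, Yb⁆ = ⊥ := le_bot_iff.1 ((commutator_mono h3 le_rfl).trans hUY.le)
    have h5 : ⁅⁅Yb, Yb⁆, Ab⁆ = ⊥ :=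
      commutator_commutator_eq_bot_of_rotate h4 (by rw [commutator_comm Ab Yb]; exact h4)
    rw [hK2, ← map_le_iff_le_comap, map_commutator, ← commutator_eq_bot_iff_le_centralizer]
    exact le_bot_iff.1 ((commutator_mono (commutator_mono (map_comap_le _ _) (map_comap_le _ _))
      le_rfl).trans h5.le)
  -- `K2` is small
  have hA0le : A0.map H.subtype = core H := rfl
  have hK2le : K2.map H.subtype ⊓ C ≤ oddPart t ⊔ zpowers t := by
    refine (hS.le_or_solvable ht ht1 hcov (map_subtype_le _) ?_).resolve_right fun hsol => ?_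
    · exact (normal_subgroupOf_iff_le_normalizer (map_subtype_le _)).1
        (by rw [subgroupOf, comap_map_eq_self_of_injective H.subtype_injective]; infer_instance)
    set O' := oddPart t ⊓ H with hO'
    have hRO : R ≤ O' := le_inf hR.le hRH
    have hfull : ¬ p ∣ (R.subgroupOf O').index := fun h =>
      hR.full (h.trans (Dvd.intro _ (relIndex_mul_relIndex R O' (oddPart t) hRO inf_le_left)))
    set P0 := (hR.pgroup.of_equiv (subgroupOfEquivOfLe hRO).symm).toSylow hfull with hP0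
    have hmapP0 : (P0 : Subgroup O').map O'.subtype = R := by
      rw [hP0, IsPGroup.toSylow_coe, map_subgroupOf_eq_of_le hRO]
    have htR : t ∈ normalizer (R : Set G) := hR.inv ht
    have hcovM := covers_normalizer (H := H ⊓ C) (K := O') ht2
      (hcov.trans (sup_le_sup_left (le_inf le_rfl inf_le_right) _))
      (le_inf inf_le_right (inf_le_left.trans (core_le _)))
      ((inf_le_inf le_normalizer (centralizer_le_normalizer_oddPart t)).trans
        (by rw [hO', inf_comm (oddPart t)]; exact inf_normalizer_le_normalizer_inf))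
      (inf_normalizer_le_normalizer_inf ⟨centralizer_le_normalizer_oddPart t
        (mem_centralizer_singleton_iff.2 rfl), le_normalizer htH⟩)
      ((odd_card_oddPart t).of_dvd_nat (card_dvd_of_le inf_le_left)) P0 (by rw [hmapP0]; exact htR)
    rw [hmapP0] at hcovM
    set M := H ⊓ C ⊓ normalizer (R : Set G) with hM
    refine hns (isSolvable_of_covers hcovM ?_)
    have hMC : M ⊓ C = M := inf_eq_left.2 (inf_le_left.trans inf_le_right)
    rw [← hC, hMC]
    refine hsol M inf_le_left ?_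
    by_contra hns'
    refine hncp (hS.centralPart_of_not_solvable ht ht1 (hR.le.trans (core_le _)) hR.inv fun hL => ?_)
    refine hns' (Coprime.isSolvable_of_le ?_ hL)
    intro k hk
    obtain ⟨⟨⟨hkH, hkC⟩, hkN⟩, k', hk', rfl⟩ := mem_inf.1 hk
    refine ⟨hkC, mem_centralizer_iff.2 fun r hr => ?_⟩
    have hrA : r ∈ A0.map H.subtype := hcm.oddPart_inf_le (hRO hr)
    obtain ⟨r', hr', rfl⟩ := hrA
    have h1 : k' * r' * k'⁻¹ * r'⁻¹ ∈ F := by
      rw [← QuotientGroup.eq_one_iff]
      show π (k' * r' * k'⁻¹ * r'⁻¹) = 1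
      rw [map_mul, map_mul, map_mul, map_inv, map_inv,
        ← mem_centralizer_iff.1 (show π k' ∈ centralizer (Ab : Set (↥H ⧸ F)) from hk') _
          (mem_map_of_mem π hr'), mul_inv_cancel_right, mul_inv_cancel]
    have h2 : ((k' * r' * k'⁻¹ * r'⁻¹ : H) : G) ∈ R :=
      mul_mem ((mem_normalizer_iff.1 hkN _).1 hr) (inv_mem hr)
    obtain ⟨i, hi⟩ := IsPGroup.iff_card.1 hR.pgroup
    have h3 : k' * r' * k'⁻¹ * r'⁻¹ = 1 := by
      refine orderOf_eq_one_iff.1 (Nat.eq_one_of_dvd_coprimes (k := orderOf (k' * r' * k'⁻¹ * r'⁻¹))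
        ((Solvable.Cores.coprime_card_pPrimeCore p).pow_right i)
        (Subgroup.orderOf_dvd_natCard _ h1) ?_)
      rw [← Subgroup.orderOf_coe, ← hi]
      exact Subgroup.orderOf_dvd_natCard _ h2
    exact (congrArg Subtype.val (mul_inv_eq_iff_eq_mul.1 (mul_inv_eq_one.1 h3))).symm
  -- so is `C(U)`
  set N3 := Y ⊔ A0 with hN3
  haveI : N3.Normal := Subgroup.sup_normal _ _
  have hN3le : N3.map H.subtype ⊓ C ≤ oddPart t ⊔ zpowers t := by
    refine (hS.le_or_solvable ht ht1 hcov (map_subtype_le _) ?_).resolve_right fun hsol => ?_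
    · exact (normal_subgroupOf_iff_le_normalizer (map_subtype_le _)).1
        (by rw [subgroupOf, comap_map_eq_self_of_injective H.subtype_injective]; infer_instance)
    refine hns (isSolvable_of_covers hcov (hsol _ le_rfl ?_))
    -- modulo `Y` it is a section of `A0`
    have hYsol : Group.IsSolvable ↥(H ⊓ C ⊓ Y.map H.subtype) := by
      refine isSolvable_of_hom (B := oddPart t ⊔ zpowers t)
        (Abelianization.of (G := ↥(H ⊓ C ⊓ Y.map H.subtype))) (fun x hx => ?_)
        (isSolvable_oddPart_sup ht2)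
      rw [Abelianization.ker_of, commutator_def] at hx
      refine (commutator_le (H₃ := (oddPart t ⊔ zpowers t).subgroupOf _)).2 ?_ hx
      rintro ⟨a, ⟨-, haC⟩, a', ha', rfl⟩ - ⟨b, ⟨-, hbC⟩, b', hb', rfl⟩ -
      show ⁅(a' : G), (b' : G)⁆ ∈ oddPart t ⊔ zpowers t
      refine hK2le ⟨⟨⁅a', b'⁆, hYK (commutator_mem_commutator ha' hb'), rfl⟩, ?_⟩
      exact Subgroup.mul_mem _ (Subgroup.mul_mem _ (Subgroup.mul_mem _ haC hbC)
        (Subgroup.inv_mem _ haC)) (Subgroup.inv_mem _ hbC)
    let φ : ↥(H ⊓ C ⊓ N3.map H.subtype) →* ↥H ⧸ Y :=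
      (QuotientGroup.mk' Y).comp (inclusion (inf_le_left.trans inf_le_left))
    haveI : Group.IsSolvable ↥(A0.map (QuotientGroup.mk' Y)) := Cfsg.Agent.S0205.result
      ((Nat.coprime_two_right.1 (Solvable.Cores.coprime_card_pPrimeCore (G := ↥H) 2)).of_dvd_nat
        (card_map_dvd _ _))
    have hφ : ∀ x, φ x ∈ A0.map (QuotientGroup.mk' Y) := by
      rintro ⟨x, hx, x', hx', rfl⟩
      have h1 : QuotientGroup.mk' Y x' ∈ N3.map (QuotientGroup.mk' Y) := mem_map_of_mem _ hx'
      rwa [hN3, Subgroup.map_sup, (Subgroup.map_eq_bot_iff _).2 (QuotientGroup.ker_mk' Y).ge, bot_sup_eq]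
        at h1
    exact isSolvable_of_hom (B := H ⊓ C ⊓ Y.map H.subtype) (φ.codRestrict _ hφ) (fun x hx => by
      have h1 : inclusion (inf_le_left.trans inf_le_left) x ∈ Y :=
        (QuotientGroup.eq_one_iff _).1 (congrArg Subtype.val hx)
      exact ⟨(mem_inf.1 x.2).1, _, h1, rfl⟩) hYsol
  have htt : (⟨t, htH⟩ : H) * ⟨t, htH⟩ = 1 := Subtype.ext (hS.mul_self ht)
  have hYle : Y ≤ A0 ⊔ zpowers (⟨t, htH⟩ : H) := by
    intro h hh
    obtain ⟨a, ha, c, hc, he⟩ := hcm.exists_mul h.2
    obtain ⟨a', ha', rfl⟩ := ha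
    obtain ⟨hcH, hcC⟩ := mem_inf.1 hc
    have e : (⟨c, hcH⟩ : H) = a'⁻¹ * h := Subtype.ext (by
      show c = (a' : G)⁻¹ * h
      rw [he]; exact (inv_mul_cancel_left _ _).symm)
    have h1 : c ∈ oddPart t ⊔ zpowers t :=
      hN3le ⟨⟨⟨c, hcH⟩, e ▸ mul_mem (mem_sup_right (inv_mem ha')) (mem_sup_left hh), rfl⟩, hcC⟩
    obtain ⟨o, ho, z, hz, rfl⟩ := (Coprime.mem_sup_of_le_normalizer
      ((zpowers_le.2 (mem_centralizer_singleton_iff.2 rfl)).trans
        (centralizer_le_normalizer_oddPart t))).1 h1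
    have hzH : z ∈ H := zpowers_le.2 htH hz
    have hoH : o ∈ H := by simpa using mul_mem hcH (inv_mem hzH)
    obtain ⟨o', ho', rfl⟩ := hcm.oddPart_inf_le ⟨ho, hoH⟩
    have hzz : (⟨z, hzH⟩ : H) ∈ zpowers (⟨t, htH⟩ : H) := by
      obtain ⟨i, rfl⟩ := mem_zpowers_iff.1 hz
      exact ⟨i, Subtype.ext (by push_cast; rfl)⟩
    rw [show h = a' * o' * ⟨z, hzH⟩ from Subtype.ext (by
      show (h : G) = (a' : G) * o' * z
      rw [he]; exact (mul_assoc _ _ _).symm)]
    exact mul_mem_sup (mul_mem ha' ho') hzz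
  -- the constraint
  have hcq : centralizer (Cfsg.pCore p (↥H ⧸ F) : Set (↥H ⧸ F)) ≤ Cfsg.pCore p (↥H ⧸ F) := by
    set T := Cfsg.pCore p (↥H ⧸ F)
    set τ := π ⟨t, htH⟩ with hτ
    have hτ2 : τ * τ = 1 := by rw [hτ, ← map_mul, htt, map_one]
    have hin : ∀ v ∈ centralizer (T : Set (↥H ⧸ F)), v ∈ Ab ∨ v * τ ∈ Ab := by
      intro v hv
      obtain ⟨h, rfl⟩ := hsurj v
      have h1 : h ∈ Y := (centralizer_le (SetLike.coe_subset_coe.2 inf_le_left)) hv
      refine mem_or_mul_mem hτ2 ?_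
      rw [hAb, hτ, ← MonoidHom.map_zpowers, ← Subgroup.map_sup]
      exact mem_map_of_mem π (hYle h1)
    have hmem : ∀ v ∈ centralizer (T : Set (↥H ⧸ F)), v ∈ Ab → v ∈ T := fun v hv hvA =>
      (mem_inf.1 (hcA v hvA (centralizer_le (SetLike.coe_subset_coe.2 inf_le_left) hv))).1
    intro v hv
    by_contra hvT
    have hvA : v ∉ Ab := fun h => hvT (hmem v hv h)
    have hmul : ∀ a b, a * τ ∈ Ab → b * τ ∈ Ab → a * b ∈ Ab := fun a b ha hb => by
      have h1 := hAbn.conj_mem _ hb τ
      rw [show a * b = a * τ * (τ * (b * τ) * τ⁻¹) by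
        rw [inv_eq_of_mul_eq_one_right hτ2,
          show a * τ * (τ * (b * τ) * τ) = a * (τ * τ) * b * (τ * τ) by group, hτ2, mul_one, mul_one]]
      exact mul_mem ha h1
    have hv2 : v * v ∈ T :=
      hmem _ (mul_mem hv hv) (hmul v v ((hin v hv).resolve_left hvA) ((hin v hv).resolve_left hvA))
    obtain ⟨k, hk⟩ := (Solvable.Cores.isPGroup_pCore (G := ↥H ⧸ F) p) ⟨_, hv2⟩
    have hk' : (v * v) ^ p ^ k = 1 := congrArg Subtype.val hk
    obtain ⟨m, hm⟩ := ((Fact.out : p.Prime).odd_of_ne_two hp).pow (n := k)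
    set j := v ^ p ^ k with hj
    have hjC : j ∈ centralizer (T : Set (↥H ⧸ F)) := pow_mem hv _
    have hj2 : j * j = 1 := by rw [hj, ← (Commute.refl v).mul_pow, hk']
    have hjA : j ∉ Ab := fun h => hvA (by
      rw [hj, hm, pow_succ, pow_mul, pow_two] at h
      exact (Subgroup.mul_mem_cancel_left _ (pow_mem (hmul v v ((hin v hv).resolve_left hvA)
        ((hin v hv).resolve_left hvA)) m)).1 h)
    have huniq : ∀ w ∈ centralizer (T : Set (↥H ⧸ F)), w * w = 1 → w ∉ Ab → w = j := by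
      intro w hw hw2 hwA
      have h1 := hmul w j ((hin w hw).resolve_left hwA) ((hin j hjC).resolve_left hjA)
      have h2 : w * j * j = j * (w * j) :=
        mem_centralizer_iff.1 hjC _ (hmem _ (mul_mem hw hjC) h1)
      rw [mul_assoc, hj2, mul_one] at h2
      have h3 : (w * j) * (w * j) = 1 := by rw [mul_assoc, ← h2, hw2]
      rw [eq_inv_of_mul_eq_one_left (eq_one_of_sq hodd h1 h3), inv_eq_of_mul_eq_one_right hj2]
    haveI : (zpowers j).Normal := by
      refine ⟨fun x hx g => ?_⟩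
      obtain ⟨i, rfl⟩ := mem_zpowers_iff.1 hx
      have hTn : (centralizer (T : Set (↥H ⧸ F))).Normal := inferInstance
      have hg : g * j * g⁻¹ = j := huniq _ (hTn.conj_mem _ hjC g)
        (by rw [show g * j * g⁻¹ * (g * j * g⁻¹) = g * (j * j) * g⁻¹ by group, hj2]; group)
        (fun h => hjA (by
          have h4 := hAbn.conj_mem _ h g⁻¹
          rwa [show g⁻¹ * (g * j * g⁻¹) * g⁻¹⁻¹ = j by group] at h4))
      rw [← conj_zpow, hg]
      exact zpow_mem (mem_zpowers j) i
    have h5 : zpowers j ≤ Cfsg.pPrimeCore p (↥H ⧸ F) := Solvable.Cores.le_pPrimeCore (by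
      rw [Nat.card_zpowers, orderOf_eq_prime (by rw [pow_two]; exact hj2)
        (fun e => hjA (by rw [e]; exact one_mem Ab))]
      exact (Nat.coprime_primes Nat.prime_two Fact.out).2 hp.symm)
    rw [hbot, zpowers_le, mem_bot] at h5
    exact hjA (h5 ▸ one_mem Ab)
  -- conclusion
  set PG := (P : Subgroup H).map H.subtype with hPG
  set Z := Cfsg.centerThompsonOf p PG with hZ
  have hfree : ¬ Fusion.SL2Sections.HasSL2Section p ↥H := fun h =>
    hS.not_hasSL2Section hp (h.of_subgroup H)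
  refine covers_of_forall fun c hc => ?_
  obtain ⟨o, ho, k, hk, rfl⟩ := hcov.exists_mul hc
  obtain ⟨hkH, hkC⟩ := mem_inf.1 hk
  obtain ⟨a, ha, n, hn, hnH, he⟩ : ∃ a ∈ core H, ∃ n ∈ normalizer (Z : Set G), n ∈ H ∧ k = a * n := by
    obtain ⟨f, hf, m, hm, he⟩ := zj_factor_of_free hp hfree hcq P ⟨k, hkH⟩
    have hmZ : (m : G) ∈ normalizer (Z : Set G) := by
      rw [hZ, hPG, zj_map hp H.subtype H.subtype_injective]
      exact le_normalizer_map H.subtype ⟨m, hm, rfl⟩
    have hfY : f ∈ Y := by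
      rw [hY, mem_comap, show π f = 1 from (QuotientGroup.eq_one_iff f).2 hf]
      exact one_mem _
    rcases mem_or_mul_mem htt (hYle hfY) with h | h
    · exact ⟨f, ⟨f, h, rfl⟩, m, hmZ, m.2, congrArg Subtype.val he⟩
    · refine ⟨(f : G) * t, ⟨f * ⟨t, htH⟩, h, rfl⟩, t * m,
        mul_mem (normalizer_le_normalizer_zj hp PG htP) hmZ, mul_mem htH m.2, ?_⟩
      rw [show (f : G) * t * (t * m) = f * (t * t) * m by group, hS.mul_self ht, mul_one]
      exact congrArg Subtype.val he
  set J := core H ⊓ normalizer (Z : Set G) with hJ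
  have htZ : t ∈ normalizer (Z : Set G) := normalizer_le_normalizer_zj hp PG htP
  have hAJ : zpowers t ≤ normalizer (J : Set G) := zpowers_le.2
    (inf_normalizer_le_normalizer_inf ⟨le_normalizer_core H (le_normalizer htH),
      le_normalizer htZ⟩)
  have hti : t⁻¹ = t := hS.inv_eq ht
  have hcomm : ∀ z ∈ zpowers t, ⁅z, a⁻¹⁆ ∈ J := by
    intro z hz
    rcases mem_or_mul_mem (N := (⊥ : Subgroup G)) (hS.mul_self ht) (mem_sup_right hz) with h | h
    · rw [mem_bot.1 h, commutatorElement_one_left]; exact one_mem _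
    rw [eq_inv_of_mul_eq_one_left (mem_bot.1 h), hti]
    have e : ⁅t, a⁻¹⁆ = t * n * t * n⁻¹ := by
      rw [commutatorElement_def, hti, inv_inv]
      have e1 : a⁻¹ * t * a = n * t * n⁻¹ := by
        have e2 : a * n * t = t * (a * n) := he ▸ mem_centralizer_singleton_iff.1 hkC
        calc a⁻¹ * t * a = a⁻¹ * (t * (a * n)) * n⁻¹ := by group
          _ = n * t * n⁻¹ := by rw [← e2]; group
      calc t * a⁻¹ * t * a = t * (a⁻¹ * t * a) := by group
        _ = t * n * t * n⁻¹ := by rw [e1]; group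
    refine ⟨?_, ?_⟩
    · rw [commutatorElement_def, hti, inv_inv]
      exact Subgroup.mul_mem _ ((show t * a⁻¹ * t ∈ core H by
        simpa [hti] using core_conj_mem H (le_normalizer htH) (inv_mem ha))) ha
    · show ⁅t, a⁻¹⁆ ∈ normalizer (Z : Set G)
      rw [e]
      exact mul_mem (mul_mem (mul_mem htZ hn) htZ) (inv_mem hn)
  have hcop : (Nat.card (zpowers t)).Coprime (Nat.card J) := by
    rw [Nat.card_zpowers, ht2]
    exact Nat.coprime_two_left.2 ((odd_card_core H).of_dvd_nat (card_dvd_of_le inf_le_left))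
  obtain ⟨j, hj, hjc⟩ := Coprime.exists_mul_mem_centralizer hAJ hcop
    (Or.inl (Coprime.isSolvable_zpowers t)) hcomm
  have hjC : j * a⁻¹ ∈ C :=
    mem_centralizer_singleton_iff.2 (mem_centralizer_iff.1 hjc t (mem_zpowers t)).symm
  have ha0 : (j * a⁻¹)⁻¹ ∈ oddPart t :=
    core_inf_le hcov ⟨Subgroup.inv_mem _ (Subgroup.mul_mem _ (mem_inf.1 hj).1
      (Subgroup.inv_mem _ ha)), Subgroup.inv_mem _ hjC⟩
  refine ⟨o * (j * a⁻¹)⁻¹, mul_mem ho ha0, ?_⟩
  rw [show (o * (j * a⁻¹)⁻¹)⁻¹ * (o * k) = j * (a⁻¹ * k) by group, he, inv_mul_cancel_left]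
  exact mul_mem (mem_inf.1 hj).2 hn

/-- A maximal invariant `p`-subgroup of a group in which `t` is central modulo the core. -/
theorem exists_invariant_sylow {p : ℕ} [Fact p.Prime] {t : G} (ht : t ∈ S)
    (ht1 : t ≠ 1) {H P₀ : Subgroup G} (htH : t ∈ H) (hcm : CentralMod t H) (hle : P₀ ≤ H)
    (hpg : IsPGroup p P₀) (htP : t ∈ normalizer (P₀ : Set G)) :
    ∃ P : Sylow p H, P₀ ≤ (P : Subgroup H).map H.subtype ∧
      t ∈ normalizer (((P : Subgroup H).map H.subtype : Subgroup G) : Set G) := by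
  obtain ⟨V, hV, hmax⟩ := Finite.exists_le_maximal
    (p := fun V : Subgroup G => V ≤ H ∧ IsPGroup p V ∧ t ∈ normalizer (V : Set G)) ⟨hle, hpg, htP⟩
  obtain ⟨hVH, hVp, hVt⟩ := hmax.prop
  have hiso := (hcm.isolatedIn (hS.orderOf_two ht ht1) htH).isolated (hS.orderOf_two ht ht1) htH
  obtain ⟨P, hP⟩ := Involution.ZStar.exists_sylow_eq_of_maximal
    (fun K => Involution.ZStar.starCentral ↥K) hiso (V.subgroupOf H)
    (hVp.of_equiv (subgroupOfEquivOfLe hVH).symm)
    (mem_normalizer_fintype fun x hx => (mem_normalizer_iff.1 hVt (x : G)).1 hx) (by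
    intro W hW htW hle'
    have h1 : V ≤ W.map H.subtype := fun v hv => ⟨⟨v, hVH hv⟩, hle' hv, rfl⟩
    have h2 := hmax.le_of_ge
      (y := W.map H.subtype) ⟨map_subtype_le _, hW.map _, le_normalizer_map H.subtype ⟨_, htW, rfl⟩⟩
      h1
    exact le_antisymm (fun w hw => h2 ⟨w, hw, rfl⟩) hle')
  refine ⟨P, ?_, ?_⟩ <;> rw [hP, map_subgroupOf_eq_of_le hVH]
  exacts [hV, hVt]

/-- An invariant Sylow subgroup meets `C(t)` in a Sylow subgroup. -/
theorem not_dvd_relIndex_inf {p : ℕ} [Fact p.Prime] (hp : p ≠ 2) {t : G} (ht : t ∈ S) (ht1 : t ≠ 1)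
    {R : Subgroup G} (hR : PartSylow S p t R) {H : Subgroup G} (htH : t ∈ H) (hcov : Covers t H)
    (hcm : CentralMod t H) (hRH : R ≤ H) (P : Sylow p H)
    (htP : t ∈ normalizer (((P : Subgroup H).map H.subtype : Subgroup G) : Set G)) :
    ¬ p ∣ ((P : Subgroup H).map H.subtype ⊓ centralizer ({t} : Set G)).relIndex
      (centralizer ({t} : Set G)) := by
  set C := centralizer ({t} : Set G) with hC
  set PG := (P : Subgroup H).map H.subtype with hPG
  have hiso := (hcm.isolatedIn (hS.orderOf_two ht ht1) htH).isolated (hS.orderOf_two ht ht1) htH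
  have hCH : centralizer ({(⟨t, htH⟩ : H)} : Set H) = C.subgroupOf H := by
    ext x
    rw [mem_subgroupOf, mem_centralizer_singleton_iff, hC, mem_centralizer_singleton_iff]
    exact ⟨fun h => congrArg Subtype.val h, fun h => Subtype.ext h⟩
  have h1 := Involution.ZStar.not_dvd_relIndex (Involution.ZStar.starCentral ↥H) hiso hp P
    (mem_normalizer_fintype fun x hx => by
      obtain ⟨y, hy, hye⟩ := (mem_normalizer_iff.1 htP (x : G)).1 ⟨x, hx, rfl⟩
      have hye' : y = ⟨t, htH⟩ * x * ⟨t, htH⟩⁻¹ := Subtype.ext hye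
      exact hye' ▸ hy)
  rw [hCH, ← relIndex_map_map_of_injective _ _ H.subtype_injective,
    Subgroup.map_inf _ _ _ H.subtype_injective, subgroupOf_map_subtype, inf_comm C H,
    ← inf_assoc, inf_eq_left.2 (map_subtype_le _ : PG ≤ H)] at h1
  rw [← relIndex_mul_relIndex (PG ⊓ C) (H ⊓ C) C (inf_le_inf_right _ (map_subtype_le _))
    inf_le_right, relIndex_covers hcov]
  intro h
  rcases (Fact.out : p.Prime).dvd_mul.1 h with h | h
  · exact h1 h
  · exact hR.full (h.trans (relIndex_dvd_of_le_left _ (le_inf hR.le hRH)))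

end Setting

/-- The climb. -/
theorem climbHyp {S : Subgroup G} (M : Minimal G S) : ClimbHyp S := by
  intro p hpp hp t ht ht1 hns R hR hRne hncp
  haveI := Fact.mk hpp
  haveI := M.simple
  have hS := M.setting
  have ht2 := hS.orderOf_two ht ht1
  have h2G : 2 ∣ Nat.card G := ht2 ▸ orderOf_dvd_natCard t
  set C := centralizer ({t} : Set G) with hC
  have htC : t ∈ C := mem_centralizer_singleton_iff.2 rfl
  -- the first outcome
  have first : ∀ H : Subgroup G, H ≠ ⊤ → Covers t H → R ≤ H → OneClassIn H →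
      OneClassLocal S p t := by
    intro H hH hcov hRH hone
    obtain ⟨c, hc, hSH⟩ := hS.exists_conj_covering ht hcov
    set H' := conjMap c H with hH'
    set O' := oddPart t ⊓ H' with hO'
    have hSO : S ≤ normalizer (O' : Set G) :=
      (le_inf (hS.le_normalizer_oddPart ht) (hSH.trans le_normalizer)).trans
        inf_normalizer_le_normalizer_inf
    obtain ⟨Q, hQ⟩ := Coprime.exists_invariant_sylow hSO
      (by rw [hS.card]; exact ((Nat.coprime_two_left.2
        ((odd_card_oddPart t).of_dvd_nat (card_dvd_of_le inf_le_left))).pow_left 3))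
      (Or.inr (Cfsg.Agent.S0205.result
        ((odd_card_oddPart t).of_dvd_nat (card_dvd_of_le inf_le_left)))) p
    refine ⟨H', fun e => hH ?_, hSH, hcov.conjMap hc, ?_,
      _, (map_subtype_le _).trans inf_le_right, (map_subtype_le _).trans inf_le_left,
      Q.2.map _, fun h => ?_, hQ⟩
    · rw [eq_top_iff]
      intro x _
      have : c * x * c⁻¹ ∈ conjMap c H := by rw [← hH', e]; exact mem_top _
      rw [mem_conjMap] at this
      simpa [mul_assoc] using this
    · intro u hu v hv hu2 hv2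
      rw [hH', mem_conjMap] at hu hv
      obtain ⟨x, hx, he⟩ := hone _ hu _ hv
        (by rw [← hu2, show c⁻¹ * u * c = c⁻¹ * u * c⁻¹⁻¹ by group,
          Involution.Dihedral.orderOf_conj])
        (by rw [← hv2, show c⁻¹ * v * c = c⁻¹ * v * c⁻¹⁻¹ by group,
          Involution.Dihedral.orderOf_conj])
      refine ⟨c * x * c⁻¹, conj_mem_conjMap hx, ?_⟩
      calc c * x * c⁻¹ * u * (c * x * c⁻¹)⁻¹ = c * (x * (c⁻¹ * u * c) * x⁻¹) * c⁻¹ := by group
        _ = v := by rw [he]; group
    · rw [← relIndex_mul_relIndex _ O' (oddPart t) (map_subtype_le _) inf_le_left] at h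
      rcases hpp.dvd_mul.1 h with h | h
      · exact not_dvd_relIndex_map Q h
      · have hcR : conjMap c R ≤ O' := le_inf
          (by rintro _ ⟨r, hr, rfl⟩; exact conj_mem_oddPart hc (hR.le hr)) (map_mono hRH)
        have heq : (conjMap c R).relIndex (oddPart t) = R.relIndex (oddPart t) := by
          have h1 := Coprime.card_mul_relIndex' hR.le
          have h2 := Coprime.card_mul_relIndex' (hcR.trans inf_le_left)
          rw [card_conjMap, ← h1] at h2
          exact Nat.eq_of_mul_eq_mul_left Nat.card_pos h2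
        exact hR.full (heq ▸ h.trans (relIndex_dvd_of_le_left _ hcR))
  -- the maximal invariant subgroup
  have hcovR : Covers t (normalizer (R : Set G)) := by
    have hRO : R ≤ oddPart t := hR.le
    set P0 := (hR.pgroup.of_equiv (subgroupOfEquivOfLe hRO).symm).toSylow hR.full with hP0
    have hmap : (P0 : Subgroup (oddPart t)).map (oddPart t).subtype = R := by
      rw [hP0]; exact map_subgroupOf_eq_of_le hRO
    have h := covers_normalizer (H := C) (K := oddPart t) ht2
      (fun x hx => mem_sup_right ⟨hx, hx⟩) (core_le _) (centralizer_le_normalizer_oddPart t)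
      (centralizer_le_normalizer_oddPart t htC) (odd_card_oddPart t) P0
      (by rw [hmap]; exact hR.inv ht)
    rw [hmap] at h
    exact h.mono inf_le_right
  obtain ⟨D, hRD, hmax⟩ := Finite.exists_le_maximal
    (p := fun D : Subgroup G => IsPGroup p D ∧ S ≤ normalizer (D : Set G) ∧ R ≤ D ∧
      Covers t (normalizer (D : Set G))) ⟨hR.pgroup, hR.inv, le_rfl, hcovR⟩
  obtain ⟨hDp, hDS, -, hDcov⟩ := hmax.prop
  have hDne : D ≠ ⊥ := fun e => hRne (eq_bot_iff.2 (e ▸ hRD))
  set K := normalizer (Cfsg.centerThompsonOf p D : Set G) with hKdef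
  have hDK : normalizer (D : Set G) ≤ K := normalizer_le_normalizer_zj hp D
  have hK : K ≠ ⊤ := normalizer_ne_top h2G hp (hDp.to_le (zj_le hp D)) (zj_ne_bot hp hDp hDne)
  have hKcov : Covers t K := hDcov.mono hDK
  have hSK : S ≤ K := hDS.trans hDK
  have hDK' : D ≤ K := le_normalizer.trans hDK
  have hRK : R ≤ K := hRD.trans hDK'
  rcases hS.oneClass_or_centralMod ht ht1 hSK hKcov with hone | hcm
  · exact Or.inl (first K hK hKcov hRK hone)
  have htK : t ∈ K := hSK ht
  -- `D` is a Sylow subgroup of the core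
  have hKn : K ≤ normalizer (core K : Set G) := le_normalizer.trans (le_normalizer_core K)
  have hDodd : Odd (Nat.card D) := by
    obtain ⟨k, hk⟩ := IsPGroup.iff_card.1 hDp
    rw [hk]; exact (hpp.odd_of_ne_two hp).pow
  have hDcore : D ≤ core K := by
    set W := core K ⊔ D with hW
    have hWodd : Odd (Nat.card W) := odd_card_sup (odd_card_core K) hDodd (hDK'.trans hKn)
    have hX : W ⊓ C ≤ oddPart t := by
      refine le_oddPart_of_covers hDcov inf_le_right
        (hWodd.of_dvd_nat (card_dvd_of_le inf_le_left)) fun x hx => ?_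
      refine inf_normalizer_le_normalizer_inf ⟨?_, le_normalizer (mem_inf.1 hx).2⟩
      refine mem_normalizer_fintype fun z hz => ?_
      have hmap : W.map (MulAut.conj x).toMonoidHom ≤ W := by
        rw [hW, Subgroup.map_sup]
        refine sup_le_sup ?_ ?_
        · rintro _ ⟨w, hw, rfl⟩
          exact core_conj_mem K (le_normalizer (hDK (mem_inf.1 hx).1)) hw
        · rintro _ ⟨w, hw, rfl⟩
          exact (mem_normalizer_iff.1 (mem_inf.1 hx).1 w).1 hw
      exact hmap ⟨z, hz, rfl⟩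
    intro d hd
    obtain ⟨a, ha, c, hc, rfl⟩ := hcm.exists_mul (hDK' hd)
    have hcW : c ∈ W := by
      have := mul_mem (mem_sup_left (T := D) (inv_mem ha)) (mem_sup_right (S := core K) hd)
      rwa [inv_mul_cancel_left] at this
    exact mul_mem ha (hcm.oddPart_inf_le ⟨hX ⟨hcW, (mem_inf.1 hc).2⟩, (mem_inf.1 hc).1⟩)
  have hcopK : (Nat.card S).Coprime (Nat.card (core K)) := by
    rw [hS.card]; exact (Nat.coprime_two_left.2 (odd_card_core K)).pow_left 3
  obtain ⟨Q, hDQ, hQS⟩ := Coprime.exists_le_invariant_sylow (hSK.trans hKn) hcopK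
    (Or.inr (Cfsg.Agent.S0205.result (odd_card_core K))) hDcore hDp hDS
  have hQD : (Q : Subgroup (core K)).map (core K).subtype ≤ D :=
    hmax.le_of_ge ⟨Q.2.map _, hQS, hRD.trans hDQ,
      (covers_normalizer ht2 hKcov (core_le K) hKn (hKn htK) (odd_card_core K) Q (hQS ht)).mono
        inf_le_right⟩ hDQ
  have hDfull : ¬ p ∣ D.relIndex (core K) := by
    rw [le_antisymm hDQ hQD]; exact not_dvd_relIndex_map Q
  have hfixed : D ⊓ C = R := eq_of_le_pgroup ((inf_le_inf_right _ hDcore).trans (core_inf_le hKcov))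
    (hDp.to_le inf_le_left) (le_inf hRD (hR.le.trans (core_le _))) hR.full
  have hout : ∀ Y : Subgroup G, IsPGroup p ↥Y → S ≤ normalizer (Y : Set G) → D ≤ Y →
      Y ≤ normalizer (D : Set G) → Y ⊓ C ≤ D → Y ≤ D := by
    intro Y hYp hYS hDY hYD hYC y hy
    have hYK : Y ⊓ core K = D :=
      eq_of_le_pgroup inf_le_right (hYp.to_le inf_le_left) (le_inf hDY hDcore) hDfull
    have hcomm : ∀ z ∈ zpowers t, ⁅z, y⁆ ∈ D := by
      intro z hz
      rcases mem_or_mul_mem (N := (⊥ : Subgroup G)) (hS.mul_self ht) (mem_sup_right hz) with h | h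
      · rw [mem_bot.1 h, commutatorElement_one_left]; exact one_mem _
      rw [eq_inv_of_mul_eq_one_left (mem_bot.1 h), hS.inv_eq ht, ← hYK]
      exact ⟨Subgroup.mul_mem _ ((mem_normalizer_iff.1 (hYS ht) y).1 hy) (Subgroup.inv_mem _ hy),
        hcm.comm_mem htK (hDK (hYD hy))⟩
    obtain ⟨c, hc, hyc⟩ := Coprime.exists_centralizer_inv_mul_mem (A := zpowers t) (K := Y) (N := D)
      (zpowers_le.2 (hDS ht)) hDY hYD
      (by rw [Nat.card_zpowers, ht2]; exact Nat.coprime_two_left.2 hDodd)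
      (Or.inl (Coprime.isSolvable_zpowers t)) hy hcomm
    have hcD : c ∈ D := hYC ⟨(mem_inf.1 hc).1, mem_centralizer_singleton_iff.2
      (mem_centralizer_iff.1 (mem_inf.1 hc).2 t (mem_zpowers t)).symm⟩
    rw [show y = c * (y⁻¹ * c)⁻¹ by group]
    exact mul_mem hcD (inv_mem hyc)
  -- climb
  have htD : t ∈ normalizer (D : Set G) := hDS ht
  have step : ∀ H P₀ : Subgroup G, t ∈ H → Covers t H → CentralMod t H → D ≤ P₀ → P₀ ≤ H →
      IsPGroup p P₀ → t ∈ normalizer (P₀ : Set G) →
      ∃ P : Sylow p H, P₀ ≤ (P : Subgroup H).map H.subtype ∧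
        t ∈ normalizer (((P : Subgroup H).map H.subtype : Subgroup G) : Set G) ∧
        ¬ p ∣ ((P : Subgroup H).map H.subtype ⊓ C).relIndex C ∧
        Covers t (normalizer (Cfsg.centerThompsonOf p
          ((P : Subgroup H).map H.subtype : Subgroup G) : Set G)) := by
    intro H P₀ htH hcov hcm' hDP hle hpg htP
    obtain ⟨P, hP, htP'⟩ := hS.exists_invariant_sylow ht ht1 htH hcm' hle hpg htP
    have hRH : R ≤ H := (hRD.trans hDP).trans hle
    exact ⟨P, hP, htP', hS.not_dvd_relIndex_inf hp ht ht1 hR htH hcov hcm' hRH P htP',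
      hS.covers_normalizer_zj hp ht ht1 hns hR hncp htH hcov hcm' hRH P htP'⟩
  obtain ⟨P₁, hP₁, htP₁, hfull₁, hcov₁⟩ := step K D htK hKcov hcm le_rfl hDK' hDp htD
  obtain ⟨P, -, hPmax⟩ := Finite.exists_le_maximal
    (p := fun P : Subgroup G => IsPGroup p P ∧ D ≤ P ∧ t ∈ normalizer (P : Set G) ∧
      ¬ p ∣ (P ⊓ C).relIndex C ∧ Covers t (normalizer (Cfsg.centerThompsonOf p P : Set G)))
    ⟨P₁.2.map _, hP₁, htP₁, hfull₁, hcov₁⟩
  obtain ⟨hPp, hDP, htP, hPfull, hPcov⟩ := hPmax.prop
  set H := normalizer (Cfsg.centerThompsonOf p P : Set G) with hHdef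
  have hPne : P ≠ ⊥ := fun e => hDne (eq_bot_iff.2 (e ▸ hDP))
  have hH : H ≠ ⊤ := normalizer_ne_top h2G hp (hPp.to_le (zj_le hp P)) (zj_ne_bot hp hPp hPne)
  have htH : t ∈ H := normalizer_le_normalizer_zj hp P htP
  have hPH : P ≤ H := le_normalizer.trans (normalizer_le_normalizer_zj hp P)
  have hRH : R ≤ H := (hRD.trans hDP).trans hPH
  rcases hS.dichotomyHyp t ht ht1 H hH htH hPcov with hone | hcm'
  · exact Or.inl (first H hH hPcov hRH hone)
  right
  obtain ⟨P₂, hP₂, htP₂, hfull₂, hcov₂⟩ := step H P htH hPcov hcm' hDP hPH hPp htP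
  have heq : (P₂ : Subgroup H).map H.subtype = P :=
    le_antisymm (hPmax.le_of_ge ⟨P₂.2.map _, hDP.trans hP₂, htP₂, hfull₂, hcov₂⟩ hP₂) hP₂
  obtain ⟨Q', hQ'⟩ := hPp.exists_le_sylow
  refine ⟨D, P, ⟨hR, hRD, hDS, hfixed, hout, hDcov, ⟨Q', ?_⟩, hDP, hPfull, htH, hcm'⟩⟩
  rcases hQ'.eq_or_lt with e | e
  · exact e.symm
  exfalso
  have h1 := Coprime.lt_normalizer_inf_of_lt Q'.2 e
  set W := (Q' : Subgroup G) ⊓ normalizer (P : Set G) with hW
  have hWH : W ≤ H := inf_le_right.trans (normalizer_le_normalizer_zj hp P)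
  have h2 := eq_of_le_pgroup (R := P) hWH (Q'.2.to_le inf_le_left) h1.le
    (heq ▸ not_dvd_relIndex_map P₂)
  exact h1.ne h2.symm

end CfsgLib.Walter
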