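import Cfsg.Agent.Lib.Walter.Basic
import Cfsg.Agent.Lib.Components.SFT.Complete
import Cfsg.Agent.Lib.Involution.UnitarySylowGroup.Tools
import Cfsg.Agent.Lib.KGroups.AbelianTwo.Linear
import Cfsg.Agent.Lib.KGroups.AbelianTwo.Exceptional
import Cfsg.Agent.Lib.KGroups.AbelianTwo.SLTwo
import Cfsg.Agent.Lib.Char.FewSylow.Cubed
import Cfsg.Agent.S0222

/-!
# Elementary Sylow 2-subgroups of order 8: the odd parts are trivial

Balance at every prime gives a completion, and the covering by Sylow normalisers of it gives a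
strongly embedded subgroup unless the completion is trivial (`tools/NOTES_WALTER.md`, section 5).
-/

set_option autoImplicit false
set_option linter.unusedSectionVars false
set_option linter.style.haveILetI false

universe u

namespace CfsgLib.Walter

open Subgroup
open CfsgLib.GWKlein (core oddPart)

variable {G : Type u} [Group G] [Finite G] {S : Subgroup G}

/-- A subgroup with full `p`-parts for every prime in an overgroup is all of it. -/
theorem le_of_full {X Y : Subgroup G}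
    (h : ∀ p : ℕ, p.Prime → ∃ V : Subgroup G, V ≤ Y ∧ V ≤ X ∧ ¬ p ∣ V.relIndex X) : X ≤ Y := by
  by_contra hne
  have h1 : (Y ⊓ X).relIndex X ≠ 1 := fun h1 => hne ((relIndex_eq_one.1 h1).trans inf_le_left)
  obtain ⟨p, hp, hd⟩ := Nat.exists_prime_and_dvd h1
  obtain ⟨V, hVY, hVX, hV⟩ := h p hp
  exact hV (hd.trans (dvd_trans (dvd_mul_left _ _)
    (relIndex_mul_relIndex V (Y ⊓ X) X (le_inf hVY hVX) inf_le_right).dvd))

/-- The fixed points on an invariant Sylow subgroup are a full `p`-part of the fixed points. -/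
theorem full_fixed (hS : Setting G S) {p : ℕ} (hp : p.Prime) {K R : Subgroup G}
    (hK : Odd (Nat.card K)) {u : G} (hu : u ∈ S) (hRK : R ≤ K) (hRp : IsPGroup p R)
    (hRfull : ¬ p ∣ R.relIndex K) (hSK : S ≤ normalizer (K : Set G)) (hSR : S ≤ normalizer (R : Set G)) :
    ¬ p ∣ (R ⊓ centralizer ({u} : Set G)).relIndex (K ⊓ centralizer ({u} : Set G)) := by
  haveI := Fact.mk hp
  set A := zpowers u
  set C := centralizer ({u} : Set G)
  have hA : A ≤ S := zpowers_le.2 hu
  have hcop : (Nat.card A).Coprime (Nat.card K) := by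
    refine Nat.Coprime.coprime_dvd_left (card_dvd_of_le hA) ?_
    rw [hS.card]; exact (Nat.coprime_two_left.2 hK).pow_left 3
  have hsolv : Group.IsSolvable A ∨ Group.IsSolvable K := Or.inl (Coprime.isSolvable_zpowers u)
  obtain ⟨P₀⟩ : Nonempty (Sylow p ↥(K ⊓ C)) := inferInstance
  set U := (P₀ : Subgroup ↥(K ⊓ C)).map (K ⊓ C).subtype with hU
  have hUC : U ≤ C := (map_subtype_le _).trans inf_le_right
  have hUA : A ≤ normalizer (U : Set G) := by
    rw [zpowers_le]
    refine mem_normalizer_fintype fun y hy => ?_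
    rwa [show u * y = y * u from (mem_centralizer_singleton_iff.1 (hUC hy)).symm, mul_inv_cancel_right]
  obtain ⟨P, hUP, hPA⟩ := Coprime.exists_le_invariant_sylow (hA.trans hSK) hcop hsolv
    ((map_subtype_le _).trans inf_le_left) (P₀.2.map _) hUA
  obtain ⟨Q, hQ⟩ := (hRp.of_equiv (subgroupOfEquivOfLe hRK).symm).exists_le_sylow
  have hQR : (Q : Subgroup K).map K.subtype = R := by
    have h1 : R.subgroupOf K = (Q : Subgroup K) := by
      by_contra hne
      have hlt := lt_of_le_of_ne hQ hne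
      have h2 : (R.subgroupOf K).relIndex (Q : Subgroup K) ≠ 1 := fun h => hlt.not_ge (relIndex_eq_one.1 h)
      obtain ⟨k, hk⟩ := IsPGroup.iff_card.1 Q.2
      have h3 : (R.subgroupOf K).relIndex (Q : Subgroup K) ∣ p ^ k := hk ▸
        Dvd.intro_left _ (Coprime.card_mul_relIndex' hQ)
      obtain ⟨i, -, hi⟩ := (Nat.dvd_prime_pow hp).1 h3
      refine hRfull (dvd_trans ?_ (Dvd.intro _ (relIndex_mul_index hQ)))
      rw [hi]
      exact dvd_pow_self p fun e => h2 (by rw [hi, e, pow_zero])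
    rw [← h1, map_subgroupOf_eq_of_le hRK]
  obtain ⟨c, hc, he⟩ := Coprime.exists_centralizer_conj_sylow (hA.trans hSK) hcop hsolv Q P
    (by rw [hQR]; exact hA.trans hSR) hPA
  have hcC : (c : G) ∈ C := mem_centralizer_singleton_iff.2
    (mem_centralizer_iff.1 hc u (mem_zpowers u)).symm
  have hcK : (c : G) ∈ K ⊓ C := ⟨c.2, hcC⟩
  have hmap : (R ⊓ C).map (MulAut.conj (c : G)).toMonoidHom ≥ U := by
    intro x hx
    have h1 : x ∈ R.map (MulAut.conj (c : G)).toMonoidHom := by
      have h2 := hUP hx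
      rwa [← he, Coprime.map_smul_sylow, hQR] at h2
    obtain ⟨r, hr, rfl⟩ := h1
    refine ⟨r, ⟨hr, ?_⟩, rfl⟩
    have h3 : (c : G) * r * (c : G)⁻¹ ∈ C := hUC hx
    have h4 := mul_mem (mul_mem (inv_mem hcC) h3) hcC
    rwa [show (c : G)⁻¹ * ((c : G) * r * (c : G)⁻¹) * c = r by group] at h4
  intro hd
  have hUfull : ¬ p ∣ U.relIndex (K ⊓ C) := not_dvd_relIndex_map P₀
  apply hUfull
  have hcardle : Nat.card U ∣ Nat.card ↥(R ⊓ C) := by
    have h1 : Nat.card U ∣ Nat.card (conjMap (c : G) (R ⊓ C)) := card_dvd_of_le hmap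
    rwa [card_conjMap] at h1
  obtain ⟨m, hm⟩ := hcardle
  have h5 := Coprime.card_mul_relIndex' (inf_le_inf_right C hRK)
  have h6 := Coprime.card_mul_relIndex' (map_subtype_le (P₀ : Subgroup ↥(K ⊓ C)))
  rw [← hU, ← h5, hm, mul_assoc] at h6
  have h7 := Nat.eq_of_mul_eq_mul_left Nat.card_pos h6
  rw [h7]
  exact hd.trans (dvd_mul_left _ _)

/-- Balance from balance at every prime. -/
theorem balanced_of_balanceAt (hS : Setting G S)
    (h : ∀ p : ℕ, p.Prime → p ≠ 2 → ∀ t ∈ S, t ≠ 1 → BalanceAt S p t) : Balanced S := by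
  intro a ha ha1 b hb hb1
  refine le_of_full fun p hp => ?_
  rcases eq_or_ne p 2 with rfl | hp2
  · refine ⟨⊥, bot_le, bot_le, fun h2 => ?_⟩
    rw [relIndex_bot_left] at h2
    exact ((odd_card_oddPart a).of_dvd_nat (card_dvd_of_le inf_le_left)).not_two_dvd_nat h2
  · obtain ⟨R, hR, hbal⟩ := h p hp hp2 a ha ha1
    exact ⟨R ⊓ centralizer ({b} : Set G), hbal b hb hb1, inf_le_inf_right _ hR.le,
      full_fixed hS hp (odd_card_oddPart a) hb hR.le hR.pgroup hR.full (hS.le_normalizer_oddPart ha) hR.inv⟩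

/-- The signalizer functor `a ↦ O(C(a))` has a completion. -/
theorem exists_completion (hS : Setting G S) (hb : Balanced S) : ∃ W : Subgroup G, Completion S W := by
  haveI : Fact (Nat.Prime 2) := ⟨Nat.prime_two⟩
  have hθ : Cfsg.IsSolvableSignalizerFunctor 2 S (oddPart (G := G)) :=
    ⟨⟨fun a _ _ => GWKlein.oddPart_le a, fun a _ _ => (odd_card_oddPart a).not_two_dvd_nat,
      fun a ha _ b hb' x hx => conj_mem_oddPart (hS.le_centralizer ha hb') hx, hb⟩,
      fun a _ _ => Cfsg.Agent.S0205.result (odd_card_oddPart a)⟩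
  obtain ⟨hm, hfix⟩ := CfsgLib.Components.SFT.solvable_complete hS.elem (by rw [hS.card]; norm_num) hθ
  exact ⟨_, ⟨Nat.not_even_iff_odd.1 fun he => hm.2.1 (even_iff_two_dvd.1 he), fun s hs => mem_normalizer_fintype fun y hy => hm.2.2.1 s hs y hy, hfix⟩⟩

/-- With the covering the normaliser of the completion contains all centralisers of involutions of `S`. -/
theorem centralizer_le_of_cover {W : Subgroup G} (hW : Completion S W)
    (hcov : ∀ p : ℕ, p.Prime → p ≠ 2 → ∀ t ∈ S, t ≠ 1 → CoverAt W p t) {t : G} (ht : t ∈ S) (ht1 : t ≠ 1) :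
    centralizer ({t} : Set G) ≤ normalizer (W : Set G) := by
  intro x hx
  have hOW : oddPart t ≤ W := hW.fixed t ht ht1 ▸ inf_le_left
  suffices h : W ≤ conjMap x W by
    exact mem_normalizer_iff_map_conj_eq.2
      (eq_of_le_of_card_ge h (card_conjMap x W).le).symm
  refine le_of_full fun p hp => ?_
  rcases eq_or_ne p 2 with rfl | hp2
  · refine ⟨⊥, bot_le, bot_le, fun h2 => ?_⟩
    rw [relIndex_bot_left] at h2
    exact hW.odd.not_two_dvd_nat h2
  · obtain ⟨Q, hQW, -, hQ, hc⟩ := hcov p hp hp2 t ht ht1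
    obtain ⟨o, ho, k, hk, rfl⟩ := hc.exists_mul hx
    refine ⟨conjMap o Q, ?_, ?_, ?_⟩
    · have hk' : conjMap k Q = Q := mem_normalizer_iff_map_conj_eq.1 (mem_inf.1 hk).1
      rw [← hk', conjMap_conjMap]
      exact map_mono hQW
    · rintro _ ⟨y, hy, rfl⟩
      exact mul_mem (mul_mem (hOW ho) (hQW hy)) (inv_mem (hOW ho))
    · intro hd
      have h1 : conjMap o W = W := mem_normalizer_iff_map_conj_eq.1 (le_normalizer (hOW ho))
      have h2 : (conjMap o Q).relIndex (conjMap o W) = Q.relIndex W :=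
        relIndex_map_map_of_injective _ _ (MulAut.conj o).injective
      rw [h1] at h2
      exact hQ (h2 ▸ hd)

theorem abTwo (hS : Setting G S) : CfsgLib.KGroups.AbelianTwo.AbTwo G := fun P => by
  haveI : Fact (Nat.Prime 2) := ⟨Nat.prime_two⟩
  obtain ⟨P₀, hP₀⟩ := hS.sylow
  obtain ⟨g, hg⟩ := MulAction.exists_smul_eq G P P₀
  let eP : ↥(P : Subgroup G) ≃* ↥(P₀ : Subgroup G) := hg ▸ P.equivSMul g
  refine ⟨⟨fun x y => eP.injective ?_⟩⟩
  rw [map_mul, map_mul]
  exact Subtype.ext (hS.commute (hP₀ ▸ (eP x).2) (hP₀ ▸ (eP y).2)).eq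

/-- A simple group with elementary Sylow 2-subgroup of order 8 and a strongly embedded subgroup is
`PSL(2,8)`. -/
theorem isLTwoEight_of_stronglyEmbedded [IsSimpleGroup G] (hna : ¬ IsMulCommutative G) (hS : Setting G S)
    {H : Subgroup G} (hH : Cfsg.IsStronglyEmbedded H) : IsLTwoEight G := by
  have hna' : ∃ a b : G, a * b ≠ b * a := by
    by_contra! h
    exact hna ⟨⟨h⟩⟩
  have h8 : 8 ∣ Nat.card G := hS.card ▸ card_subgroup_dvd_card S
  rcases Cfsg.Agent.S0222.result hna' H hH with ⟨F, _, _, hF2, hF4, ⟨e⟩⟩ | ⟨-, m, hm, hc⟩ |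
    ⟨F, _, _, q, hF, hq, hq4, ⟨e⟩⟩
  · obtain ⟨n, -, hn⟩ := FiniteField.card F 2
    refine ⟨F, inferInstance, inferInstance, ?_, ⟨e⟩⟩
    have hpsl := CfsgLib.Char.FewSylow.card_psl_two (F := F)
    rw [← Nat.card_congr e.toEquiv, hn] at hpsl
    have hgcd : Nat.gcd 2 (2 ^ (n : ℕ) - 1) = 1 := Nat.coprime_two_left.2 (Nat.Even.sub_odd Nat.one_le_two_pow
      ((Nat.even_pow.2 ⟨even_two, n.pos.ne'⟩)) odd_one)
    rw [hgcd, one_mul] at hpsl
    rw [hn] at hF4 ⊢
    have hn2 : 2 ≤ (n : ℕ) := by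
      by_contra hlt
      have h1 : 2 ^ (n : ℕ) ≤ 2 ^ 1 := Nat.pow_le_pow_right (by norm_num) (by omega)
      omega
    rcases Nat.lt_or_ge (n : ℕ) 3 with h | h
    · exfalso
      rw [show (n : ℕ) = 2 by omega] at hpsl
      rw [hpsl] at h8
      norm_num at h8
    · rcases Nat.lt_or_ge (n : ℕ) 4 with h' | h'
      · rw [show (n : ℕ) = 3 by omega]; rfl
      · exfalso
        refine hS.not_sixteen ?_
        rw [hpsl]
        exact dvd_mul_of_dvd_left ((show (16 : ℕ) = 2 ^ 4 by norm_num) ▸ pow_dvd_pow 2 h') _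
  · exfalso
    refine hS.not_sixteen ?_
    rw [hc]
    refine dvd_mul_of_dvd_left (dvd_mul_of_dvd_left ?_ _) _
    rw [← pow_mul]
    exact (show (16 : ℕ) = 2 ^ 4 by norm_num) ▸ pow_dvd_pow 2 (by omega)
  · exfalso
    obtain ⟨p, hp⟩ := CharP.exists F
    haveI : Fact p.Prime := ⟨CharP.char_is_prime F p⟩
    obtain ⟨n, -, hn⟩ := FiniteField.card F p
    have h2p : 2 ∣ p := Nat.prime_two.dvd_of_dvd_pow (n := n)
      (by rw [← hn, hF]; exact (even_iff_two_dvd.1 hq).trans (dvd_pow_self q two_ne_zero))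
    obtain rfl : p = 2 := ((Nat.prime_dvd_prime_iff_eq Nat.prime_two Fact.out).1 h2p).symm
    exact CfsgLib.KGroups.AbelianTwo.not_psu_three hF ((abTwo hS).mk_witness ⟨e⟩)

/-- A normal-subgroup free description of the end: the completion is trivial, or `PSL(2,8)`. -/
theorem cores_of_completion [IsSimpleGroup G] (hna : ¬ IsMulCommutative G) (hS : Setting G S)
    {W : Subgroup G} (hW : Completion S W)
    (hcov : ∀ p : ℕ, p.Prime → p ≠ 2 → ∀ t ∈ S, t ≠ 1 → CoverAt W p t) : CoresHyp S := by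
  rcases eq_or_ne W ⊥ with rfl | hW1
  · exact Or.inr fun t ht ht1 => by rw [← hW.fixed t ht ht1, bot_inf_eq]
  left
  obtain ⟨P, hP⟩ := hS.sylow
  have heven : 2 ∣ Nat.card G :=
    (show 2 ∣ 8 by norm_num).trans (hS.card ▸ card_subgroup_dvd_card S)
  refine isLTwoEight_of_stronglyEmbedded hna hS (H := normalizer (W : Set G)) ?_
  refine Involution.UnitarySylowGroup.se_of_centralizers P heven (fun h => ?_) ?_ fun u hu hu2 => ?_
  · rcases (normalizer_eq_top_iff.1 h).eq_bot_or_eq_top with e | e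
    · exact hW1 e
    · have := hW.odd
      rw [e, card_top] at this
      exact this.not_two_dvd_nat heven
  · rw [hP]
    exact hS.normalizer_le_of_completion hW
  · exact centralizer_le_of_cover hW hcov (hP ▸ hu) fun e => by rw [e, orderOf_one] at hu2; omega

/-- Section 5: balance and covering give trivial odd parts, or `PSL(2,8)`. -/
theorem coresHyp (M : Minimal G S)
    (hbal : ∀ p : ℕ, p.Prime → p ≠ 2 → ∀ t ∈ S, t ≠ 1 → BalanceAt S p t) (hcov : CoverHyp S) :
    CoresHyp S := by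
  haveI := M.simple
  obtain ⟨W, hW⟩ := exists_completion M.setting (balanced_of_balanceAt M.setting hbal)
  exact cores_of_completion M.noncomm M.setting hW (hcov W hW)

/-- The strongly embedded case once the odd parts are trivial. -/
theorem isLTwoEight_of_centralizers_le [IsSimpleGroup G] (hna : ¬ IsMulCommutative G) (hS : Setting G S)
    {H : Subgroup G} (hH : H ≠ ⊤) (hN : normalizer (S : Set G) ≤ H)
    (hC : ∀ t ∈ S, t ≠ 1 → centralizer ({t} : Set G) ≤ H) : IsLTwoEight G := by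
  obtain ⟨P, hP⟩ := hS.sylow
  have heven : 2 ∣ Nat.card G :=
    (show 2 ∣ 8 by norm_num).trans (hS.card ▸ card_subgroup_dvd_card S)
  exact isLTwoEight_of_stronglyEmbedded hna hS (Involution.UnitarySylowGroup.se_of_centralizers P heven hH
    (by rw [hP]; exact hN) fun u hu hu2 => hC u (hP ▸ hu) fun e => by rw [e, orderOf_one] at hu2; omega)

end CfsgLib.Walter
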