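import Cfsg.Agent.Lib.Walter.Basic
import Cfsg.Agent.Lib.GWKlein.Theorem
import Cfsg.Agent.Lib.GWKlein.Consumers.AbelianReduce
import Cfsg.Agent.Lib.GWDihedral.LTwoField

/-!
# The local model of a non-solvable centraliser

For a non-solvable `C(t)` the quotient by `O(C(t)) ⟨t⟩` embeds into `Aut PSL(2,q)` over the inner
automorphisms, `q ≡ 3, 5 (mod 8)`.  So an element of odd order centralising `S` without field part
lies in `O(C(t))`.
-/

set_option autoImplicit false
set_option linter.unusedSectionVars false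
set_option linter.style.haveILetI false

universe u

namespace CfsgLib.Walter

open Subgroup
open CfsgLib.GWKlein (core oddPart)
open CfsgLib.GWDihedral.LTwoAut (inn pgl fieldHom fieldHom_eq_one fieldHom_comm)

section Aut

variable {F : Type} [Field F]

local notation "PSL" => Matrix.ProjectiveSpecialLinearGroup (Fin 2) F

open CfsgLib.GWDihedral.LTwoAut in
/-- An element of `PGL(2,q)` centralising a four-group of it squares to one. -/
theorem sq_eq_one_of_four [Fintype F] (h2 : (2 : F) ≠ 0) {j v x : MulAut PSL} (hj : j ∈ pgl)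
    (hv : v ∈ pgl) (hx : x ∈ pgl) (hj1 : j ≠ 1) (hv1 : v ≠ 1) (hjv : j ≠ v) (hj2 : j * j = 1)
    (hv2 : v * v = 1) (hjvc : Commute j v) (hxj : Commute x j) (hxv : Commute x v) : x * x = 1 := by
  classical
  obtain ⟨A, rfl⟩ := hj
  obtain ⟨P, δ, -, hP⟩ := exists_conj_jm h2 hj2 hj1
  have hvi : sa P * v * (sa P)⁻¹ * (sa P * v * (sa P)⁻¹) = 1 := by
    rw [show sa P * v * (sa P)⁻¹ * (sa P * v * (sa P)⁻¹) = sa P * (v * v) * (sa P)⁻¹ by group, hv2]
    group
  have hmem : ∀ y : MulAut PSL, y ∈ (pgl : Subgroup (MulAut PSL)) → Commute y (sa A) →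
      sa P * y * (sa P)⁻¹ ∈ (tor δ : Subgroup (MulAut PSL)) ∨
        sa rm * (sa P * y * (sa P)⁻¹) ∈ (tor δ : Subgroup (MulAut PSL)) := by
    intro y hy hc
    obtain ⟨B, rfl⟩ := hy
    rw [← map_inv, ← map_mul, ← map_mul]
    refine centralizer_cases ?_
    rw [map_mul, map_mul, map_inv, ← hP]
    exact hc.map (MulAut.conj (sa P)).toMonoidHom
  set y := sa P * x * (sa P)⁻¹ with hy
  set w := sa P * v * (sa P)⁻¹ with hw
  have hyw : Commute y w := hxv.map (MulAut.conj (sa P)).toMonoidHom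
  have hr : sa rm * sa rm = (1 : MulAut PSL) := by
    rw [← map_mul, show (rm : GL (Fin 2) F) * rm = 1 by
      conv_lhs => arg 1; rw [← rm_inv]
      exact inv_mul_cancel _, map_one]
  have hrinv : (sa rm)⁻¹ = (sa rm : MulAut PSL) := inv_eq_of_mul_eq_one_right hr
  have hwT : w ∉ (tor δ : Subgroup (MulAut PSL)) := by
    intro h
    haveI := isCyclic_tor h2 δ
    haveI := finite_aut (F := F)
    have hJT : sa (jm δ) ∈ (tor δ : Subgroup (MulAut PSL)) := jm_mem_tor δ
    have hJ2 : sa (jm δ) * sa (jm δ) = (1 : MulAut PSL) := sa_jm_sq δ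
    have h3 : ({1, ⟨sa (jm δ), hJT⟩, ⟨w, h⟩} : Finset (tor δ : Subgroup (MulAut PSL))).card = 3 := by
      refine Finset.card_eq_three.2 ⟨_, _, _, ?_, ?_, ?_, rfl⟩
      · intro e
        exact sa_jm_ne_one δ (congrArg Subtype.val e).symm
      · intro e
        exact hv1 (conj_eq_one_iff.1
          (show sa P * v * (sa P)⁻¹ = 1 from (congrArg Subtype.val e).symm))
      · intro e
        refine hjv ?_
        have e' : sa (jm δ) = w := congrArg Subtype.val e
        rw [hw, ← hP] at e'
        exact mul_left_cancel (mul_right_cancel e')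
    haveI := Fintype.ofFinite (tor δ : Subgroup (MulAut PSL))
    have hle := IsCyclic.card_pow_eq_one_le (α := (tor δ : Subgroup (MulAut PSL))) (n := 2) two_pos
    have hsub := Finset.card_le_card (s := ({1, ⟨sa (jm δ), hJT⟩, ⟨w, h⟩} : Finset (tor δ : Subgroup (MulAut PSL))))
      (t := Finset.univ.filter fun z : (tor δ : Subgroup (MulAut PSL)) => z ^ 2 = 1) (by
        intro z hz
        simp only [Finset.mem_insert, Finset.mem_singleton] at hz
        rw [Finset.mem_filter]
        refine ⟨Finset.mem_univ _, ?_⟩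
        rcases hz with rfl | rfl | rfl
        · rw [one_pow]
        · exact Subtype.ext (by rw [SubmonoidClass.coe_pow, pow_two]; exact hJ2)
        · exact Subtype.ext (by rw [SubmonoidClass.coe_pow, pow_two]; exact hvi))
    omega
  have hrw : sa rm * w ∈ (tor δ : Subgroup (MulAut PSL)) :=
    (hmem v hv hjvc.symm).resolve_left hwT
  have hinv : ∀ z ∈ (tor δ : Subgroup (MulAut PSL)), Commute z w → z * z = 1 := by
    intro z hz hc
    have h1 := rm_conj hz
    rw [hrinv] at h1
    have h3 : Commute (sa rm * w) z := tor_comm hrw hz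
    have h4 : Commute (sa rm * w * w⁻¹) z := h3.mul_left hc.symm.inv_left
    rw [mul_inv_cancel_right] at h4
    rw [h4.eq, mul_assoc, hr, mul_one] at h1
    nth_rewrite 2 [h1]
    exact mul_inv_cancel z
  have hfin : y * y = 1 := by
    rcases hmem x hx hxj with h | h
    · exact hinv y h hyw
    · have h1 := rm_conj h
      rw [hrinv, ← mul_assoc, hr, one_mul] at h1
      have hyr : y * sa rm ∈ (tor δ : Subgroup (MulAut PSL)) := h1 ▸ inv_mem h
      have h5 : y * w ∈ (tor δ : Subgroup (MulAut PSL)) := by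
        have := mul_mem hyr hrw
        rwa [mul_assoc, ← mul_assoc (sa rm), hr, one_mul] at this
      have h6 := hinv _ h5 (hyw.mul_left (Commute.refl w))
      rwa [hyw.symm.mul_mul_mul_comm, hvi, mul_one] at h6
  rw [hy, show sa P * x * (sa P)⁻¹ * (sa P * x * (sa P)⁻¹) = sa P * (x * x) * (sa P)⁻¹ by group]
    at hfin
  exact conj_eq_one_iff.1 hfin

/-- The field automorphisms form a group of odd order. -/
theorem odd_card_ringAut [Fintype F] (h8 : Fintype.card F % 8 = 3 ∨ Fintype.card F % 8 = 5) :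
    Odd (Nat.card (F ≃+* F)) := by
  obtain ⟨n, hp, hq⟩ := FiniteField.card F (ringChar F)
  haveI : Fact (ringChar F).Prime := ⟨hp⟩
  haveI : NeZero (n : ℕ) := ⟨n.ne_zero⟩
  obtain ⟨e⟩ := CfsgLib.KnownC.AutPSL.ringAut_cyclic (F := F) hq
  rw [Nat.card_congr e.toEquiv, Nat.card_congr Multiplicative.toAdd, Nat.card_zmod]
  by_contra hn
  obtain ⟨j, hj⟩ := Nat.not_odd_iff_even.1 hn
  obtain ⟨i, hi⟩ : Odd (ringChar F ^ j) := by
    refine (hp.odd_of_ne_two fun e => ?_).pow
    have := FiniteField.even_card_of_char_two e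
    omega
  have h1 : Fintype.card F = 8 * ((i * (i + 1)) / 2) + 1 := by
    rw [hq, hj, pow_add, hi]
    obtain ⟨k, hk⟩ := Nat.even_mul_succ_self i
    have : (2 * i + 1) * (2 * i + 1) = 4 * (i * (i + 1)) + 1 := by ring
    omega
  omega

theorem fieldHom_invol [Fintype F] (h8 : Fintype.card F % 8 = 3 ∨ Fintype.card F % 8 = 5)
    {x : MulAut PSL} (hx : x * x = 1) : x ∈ (pgl : Subgroup (MulAut PSL)) := by
  refine fieldHom_eq_one.1 ?_
  have h2 : fieldHom x ^ 2 = 1 := by rw [← map_pow, pow_two, hx, map_one]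
  haveI : Finite (F ≃+* F) :=
    Finite.of_injective (fun e : F ≃+* F => (e : F → F)) DFunLike.coe_injective
  exact orderOf_eq_one_iff.1 (Nat.eq_one_of_dvd_coprimes (Nat.coprime_two_right.2 (odd_card_ringAut h8))
    (orderOf_dvd_natCard _) (orderOf_dvd_of_pow_eq_one h2))

end Aut

namespace Setting

variable {G : Type u} [Group G] [Finite G] {S : Subgroup G}

/-- `C(t) / O(C(t)) ⟨t⟩` embeds into `Aut PSL(2,q)` over the inner automorphisms. -/
theorem exists_model (hS : Setting G S) {t : G} (ht : t ∈ S) (ht1 : t ≠ 1)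
    (hns : ¬ Group.IsSolvable ↥(centralizer ({t} : Set G))) :
    ∃ (F : Type) (_ : Field F) (_ : Fintype F),
      (Odd (Fintype.card F) ∧ 3 < Fintype.card F ∧
        (Fintype.card F % 8 = 3 ∨ Fintype.card F % 8 = 5)) ∧
      ∃ f : ↥(centralizer ({t} : Set G)) →* MulAut (Matrix.ProjectiveSpecialLinearGroup (Fin 2) F),
        f.ker.map (centralizer ({t} : Set G)).subtype = oddPart t ⊔ zpowers t ∧ inn ≤ f.range := by
  classical
  haveI : Fact (Nat.Prime 2) := ⟨Nat.prime_two⟩
  set C := centralizer ({t} : Set G) with hC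
  set W := oddPart t ⊔ zpowers t with hW
  have htC : t ∈ C := mem_centralizer_singleton_iff.2 rfl
  have hWC : W ≤ C := sup_le (GWKlein.oddPart_le t) (zpowers_le.2 htC)
  have hWn : C ≤ normalizer (W : Set G) := by
    intro c hc
    have h1 : c ∈ normalizer (zpowers t : Set G) := centralizer_le_normalizer _ <| by
      rw [zpowers_eq_closure, centralizer_closure]
      exact hc
    rw [mem_normalizer_iff_map_conj_eq, Subgroup.map_sup,
      mem_normalizer_iff_map_conj_eq.1 (centralizer_le_normalizer_oddPart t hc),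
      mem_normalizer_iff_map_conj_eq.1 h1]
  haveI : (W.subgroupOf C).Normal := (normal_subgroupOf_iff_le_normalizer hWC).2 hWn
  set π := QuotientGroup.mk' (W.subgroupOf C) with hπ
  have hWcard : Nat.card W ∣ Nat.card (oddPart t) * 2 := by
    have h := card_sup_dvd (A := oddPart t) (B := zpowers t)
      (zpowers_le.2 (centralizer_le_normalizer_oddPart t htC))
    rwa [Nat.card_zpowers, hS.orderOf_two ht ht1] at h
  haveI hWsol : Group.IsSolvable ↥(W.subgroupOf C) := isSolvable_of_not_four fun h => by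
    rw [Nat.card_congr (subgroupOfEquivOfLe hWC).toEquiv] at h
    obtain ⟨i, hi⟩ := odd_card_oddPart t
    have := h.trans hWcard
    omega
  have hns' : ¬ Group.IsSolvable (↥C ⧸ W.subgroupOf C) := fun h => hns <|
    haveI := h
    Group.isSolvable_of_ker_le_range (W.subgroupOf C).subtype π
      (by rw [hπ, QuotientGroup.ker_mk', range_subtype])
  have h8 : ¬ 8 ∣ Nat.card (↥C ⧸ W.subgroupOf C) := fun h => hS.not_sixteen (by
    have h2 : 2 ∣ Nat.card ↥(W.subgroupOf C) := by
      rw [Nat.card_congr (subgroupOfEquivOfLe hWC).toEquiv, ← hS.orderOf_two ht ht1, ← Nat.card_zpowers]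
      exact card_dvd_of_le le_sup_right
    have h1 := (W.subgroupOf C).card_mul_index
    rw [index_eq_card] at h1
    exact ((show 16 = 2 * 8 from rfl) ▸ mul_dvd_mul h2 h).trans
      ((dvd_of_eq h1).trans (card_subgroup_dvd_card C)))
  haveI : Nontrivial (↥C ⧸ W.subgroupOf C) := by
    by_contra h
    rw [not_nontrivial_iff_subsingleton] at h
    exact hns' inferInstance
  have hquot : ∀ N : Subgroup (↥C ⧸ W.subgroupOf C), ∀ (hN : N.Normal), N ≠ ⊥ →
      Group.IsSolvable ((↥C ⧸ W.subgroupOf C) ⧸ N) := by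
    intro N hN hne
    refine hS.isSolvable_quotient ht ht1 ((QuotientGroup.mk' N).comp π)
      ((QuotientGroup.mk'_surjective N).comp (QuotientGroup.mk'_surjective _)) fun hle => hne ?_
    refine (eq_bot_iff_forall _).2 fun y hy => ?_
    obtain ⟨c, rfl⟩ := QuotientGroup.mk'_surjective (W.subgroupOf C) y
    refine (QuotientGroup.eq_one_iff c).2 (mem_subgroupOf.2 (hle ⟨c, MonoidHom.mem_ker.2 ?_, rfl⟩))
    exact (QuotientGroup.eq_one_iff _).2 hy
  have hss : ∀ N : Subgroup (↥C ⧸ W.subgroupOf C), N.Normal → Group.IsSolvable ↥N → N = ⊥ := by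
    intro N hN hNs
    by_contra hne
    haveI := hquot N hN hne
    exact hns' (Group.isSolvable_of_ker_le_range N.subtype (QuotientGroup.mk' N)
      (by rw [QuotientGroup.ker_mk', range_subtype]))
  have hcc : ∀ L K : Subgroup (↥C ⧸ W.subgroupOf C), ¬ Group.IsSolvable L →
      (∀ l ∈ L, ∀ k ∈ K, Commute l k) → Group.IsSolvable K := by
    intro L K hL hLK
    by_contra hK
    refine h8 ((show 8 ∣ 4 * 4 from ⟨2, rfl⟩).trans ?_)
    have hKn : L ≤ normalizer (K : Set _) := fun l hl =>
      centralizer_le_normalizer _ (mem_centralizer_iff.2 fun k hk => ((hLK l hl k hk).symm).eq)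
    haveI : (K.subgroupOf L).Normal := ⟨fun z hz l => by
      rw [mem_subgroupOf] at hz ⊢
      exact (mem_normalizer_iff.1 (hKn l.2) _).1 hz⟩
    haveI : Group.IsSolvable ↥(K.subgroupOf L) := Group.isSolvable_of_comm fun a b =>
      Subtype.ext (Subtype.ext (hLK _ a.1.2 _ (mem_subgroupOf.1 b.2)).eq)
    have h4 : 4 ∣ K.relIndex L := by
      by_contra h
      rw [relIndex, index_eq_card] at h
      haveI := isSolvable_of_not_four h
      exact hL (Group.isSolvable_of_ker_le_range (K.subgroupOf L).subtype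
        (QuotientGroup.mk' (K.subgroupOf L)) (by rw [QuotientGroup.ker_mk', range_subtype]))
    have h4' : 4 ∣ Nat.card K := by_contra fun h => hK (isSolvable_of_not_four h)
    have h16 : 4 * 4 ∣ Nat.card ↥(K ⊔ L) := by
      haveI : (K.subgroupOf (K ⊔ L)).Normal :=
        (normal_subgroupOf_iff_le_normalizer le_sup_left).2 (sup_le le_normalizer hKn)
      rw [← Coprime.card_mul_relIndex' (le_sup_left : K ≤ K ⊔ L)]
      refine mul_dvd_mul h4' (h4.trans ?_)
      have h1 := relIndex_dvd_index_of_normal (K.subgroupOf (K ⊔ L)) (L.subgroupOf (K ⊔ L))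
      rwa [relIndex_subgroupOf (le_sup_right : L ≤ K ⊔ L)] at h1
    exact h16.trans (card_subgroup_dvd_card _)
  obtain ⟨N, hN, hNs, hNna, hNc⟩ := GWKlein.Consumers.exists_simple_normal hcc hss
  haveI := hN
  haveI := hNs
  obtain ⟨F, i1, i2, ho, h3, hm, ⟨e⟩⟩ :=
    GWKlein.simpleKlein.{u} ↥N hNna fun h => h8 (h.trans (card_subgroup_dvd_card N))
  refine ⟨F, i1, i2, ⟨ho, h3, hm⟩,
    ((MulAut.congr e).toMonoidHom.comp MulAut.conjNormal).comp π, ?_, ?_⟩
  · refine Eq.trans (congrArg (Subgroup.map C.subtype) ?_)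
      ((subgroupOf_map_subtype W C).trans (inf_eq_left.2 hWC))
    ext c
    rw [MonoidHom.mem_ker]
    simp only [MonoidHom.comp_apply, MulEquiv.coe_toMonoidHom, map_eq_one_iff _ (MulEquiv.injective _)]
    rw [← QuotientGroup.eq_one_iff (N := W.subgroupOf C)]
    constructor
    · intro h
      have h1 : π c ∈ centralizer (N : Set (↥C ⧸ W.subgroupOf C)) := mem_centralizer_iff.2 fun y hy => by
        have h2 := congrArg (fun φ : MulAut N => ((φ ⟨y, hy⟩ : N) : ↥C ⧸ W.subgroupOf C)) h
        simp only [MulAut.conjNormal_apply, MulAut.one_apply] at h2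
        exact (mul_inv_eq_iff_eq_mul.1 h2).symm
      rw [hNc, mem_bot] at h1
      exact h1
    · intro h
      show MulAut.conjNormal (π c) = 1
      rw [show π c = 1 from h, map_one]
  · rintro _ ⟨g, rfl⟩
    obtain ⟨c, hc⟩ := QuotientGroup.mk'_surjective (W.subgroupOf C) ((e.symm g : N) : ↥C ⧸ _)
    refine ⟨c, MulEquiv.ext fun z => ?_⟩
    obtain ⟨n, rfl⟩ := e.surjective z
    show e (MulAut.conjNormal (π c) (e.symm (e n))) = g * e n * g⁻¹
    rw [hπ, hc, e.symm_apply_apply]
    apply e.symm.injective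
    rw [map_mul, map_mul, map_inv, e.symm_apply_apply, e.symm_apply_apply]
    exact Subtype.ext (MulAut.conjNormal_apply _ _)

/-- An element of odd order centralising `S` and without field part lies in `O(C(t))`. -/
theorem mem_oddPart_of_fieldHom (hS : Setting G S) {t : G} (ht : t ∈ S) (ht1 : t ≠ 1)
    {F : Type} [Field F] [Fintype F] (hodd : Odd (Fintype.card F))
    (h8 : Fintype.card F % 8 = 3 ∨ Fintype.card F % 8 = 5)
    {f : ↥(centralizer ({t} : Set G)) →* MulAut (Matrix.ProjectiveSpecialLinearGroup (Fin 2) F)}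
    (hker : f.ker.map (centralizer ({t} : Set G)).subtype = oddPart t ⊔ zpowers t) {x : G}
    (hxC : x ∈ centralizer ({t} : Set G)) (hxS : x ∈ centralizer (S : Set G))
    (ho : Odd (orderOf x)) (hfx : fieldHom (f ⟨x, hxC⟩) = 1) : x ∈ oddPart t := by
  have hSC := hS.le_centralizer ht
  have hker' : ∀ c : ↥(centralizer ({t} : Set G)), f c = 1 ↔ (c : G) ∈ oddPart t ⊔ zpowers t := fun c => by
    rw [← hker, ← MonoidHom.mem_ker]
    exact (mem_map_iff_mem (subtype_injective _)).symm
  have htO : zpowers t ≤ normalizer (oddPart t : Set G) :=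
    zpowers_le.2 (hS.le_normalizer_oddPart ht ht)
  have hWS : ∀ s ∈ S, s ∈ oddPart t ⊔ zpowers t → s = 1 ∨ s = t := by
    intro s hs hsW
    obtain ⟨o, hoo, z, hz, rfl⟩ := (Coprime.mem_sup_of_le_normalizer htO).1 hsW
    have hzS : z ∈ S := zpowers_le.2 ht hz
    have : o = 1 := eq_one_of_sq (odd_card_oddPart t) hoo (hS.mul_self
      ((mul_mem_cancel_right (H := S) hzS).1 hs))
    subst this
    rw [one_mul]
    obtain ⟨k, rfl⟩ := mem_zpowers_iff.1 hz
    rcases Int.even_or_odd k with ⟨j, rfl⟩ | ⟨j, rfl⟩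
    · left
      rw [zpow_add, ← (Commute.refl t).mul_zpow, hS.mul_self ht, one_zpow]
    · right
      rw [zpow_add, two_mul, zpow_add, ← (Commute.refl t).mul_zpow, hS.mul_self ht, one_zpow, one_mul,
        zpow_one]
  obtain ⟨u, hu, hut⟩ : ∃ u ∈ S, u ∉ oddPart t ⊔ zpowers t := by
    by_contra h
    push Not at h
    have := hS.card ▸ (card_dvd_of_le (show S ≤ oddPart t ⊔ zpowers t from h)).trans (card_sup_dvd htO)
    rw [Nat.card_zpowers, hS.orderOf_two ht ht1] at this
    obtain ⟨i, hi⟩ := odd_card_oddPart t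
    omega
  obtain ⟨v, hv, hv1, hvu⟩ : ∃ v ∈ S, v ∉ oddPart t ⊔ zpowers t ∧ u * v ∉ oddPart t ⊔ zpowers t := by
    by_contra h
    push Not at h
    have hsub : (S : Set G) ⊆ {1, t, u, u * t} := by
      intro v hv
      by_cases h1 : v ∈ oddPart t ⊔ zpowers t
      · rcases hWS v hv h1 with rfl | rfl <;> simp
      rcases hWS _ (mul_mem hu hv) (h v hv h1) with e | e
      · rw [mul_eq_one_iff_inv_eq, hS.inv_eq hu] at e; simp [e]
      · have e' : v = u * t := by rw [← e, ← mul_assoc, hS.mul_self hu, one_mul]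
        simp [e']
    have h4 := (Set.ncard_le_ncard hsub (Set.toFinite _)).trans
      (((Set.ncard_insert_le _ _).trans (Nat.add_le_add_right
        ((Set.ncard_insert_le _ _).trans (Nat.add_le_add_right
          ((Set.ncard_insert_le _ _).trans (Nat.add_le_add_right (Set.ncard_singleton _).le _)) _)) _)))
    rw [← Nat.card_coe_set_eq, SetLike.coe_sort_coe, hS.card] at h4
    omega
  have hsq : ∀ s : G, ∀ hs : s ∈ S, f ⟨s, hSC hs⟩ * f ⟨s, hSC hs⟩ = 1 := fun s hs => by
    rw [← map_mul, show (⟨s, hSC hs⟩ : ↥(centralizer ({t} : Set G))) * ⟨s, hSC hs⟩ = 1 from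
      Subtype.ext (hS.mul_self hs), map_one]
  have hcomm : ∀ a b : G, ∀ (ha : a ∈ centralizer ({t} : Set G)) (hb : b ∈ centralizer ({t} : Set G)),
      Commute a b → Commute (f ⟨a, ha⟩) (f ⟨b, hb⟩) := fun a b ha hb h =>
    (show Commute (⟨a, ha⟩ : ↥(centralizer ({t} : Set G))) ⟨b, hb⟩ from Subtype.ext h.eq).map f
  have hx2 := sq_eq_one_of_four (GWDihedral.LTwoAut.two_ne_zero_of_odd hodd)
    (fieldHom_invol h8 (hsq u hu)) (fieldHom_invol h8 (hsq v hv)) (fieldHom_eq_one.1 hfx)
    (fun e => hut ((hker' _).1 e)) (fun e => hv1 ((hker' _).1 e))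
    (fun e => hvu (by
      refine (hker' ⟨u * v, mul_mem (hSC hu) (hSC hv)⟩).1 ?_
      show f (⟨u, hSC hu⟩ * ⟨v, hSC hv⟩) = 1
      rw [map_mul, ← e, hsq u hu]))
    (hsq u hu) (hsq v hv) (hcomm u v _ _ (hS.commute hu hv))
    (hcomm x u _ _ (show Commute x u from (mem_centralizer_iff.1 hxS u hu).symm))
    (hcomm x v _ _ (show Commute x v from (mem_centralizer_iff.1 hxS v hv).symm))
  have hW : x * x ∈ oddPart t ⊔ zpowers t :=
    (hker' (⟨x, hxC⟩ * ⟨x, hxC⟩)).1 (by rw [map_mul, hx2])
  obtain ⟨o, hoo, z, hz, he⟩ := (Coprime.mem_sup_of_le_normalizer htO).1 hW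
  have hz2 : z * z = 1 := hS.mul_self (zpowers_le.2 ht hz)
  have hoz : Commute o z := by
    obtain ⟨k, rfl⟩ := mem_zpowers_iff.1 hz
    exact ((show Commute o t from mem_centralizer_singleton_iff.1 (GWKlein.oddPart_le t hoo))).zpow_right k
  have h4 : x ^ 4 ∈ oddPart t := by
    have : x * x * (x * x) = o * o := by rw [← he, hoz.symm.mul_mul_mul_comm, hz2, mul_one]
    rw [show x ^ 4 = x * x * (x * x) by rw [show 4 = 2 + 2 from rfl, pow_add, pow_two], this]
    exact mul_mem hoo hoo
  obtain ⟨j, hj⟩ := exists_pow_eq_self_of_coprime (x := x) (n := 4)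
    (show Nat.Coprime (2 ^ 2) (orderOf x) from (Nat.coprime_two_left.2 ho).pow_left 2)
  rw [← hj]
  exact pow_mem h4 j

end Setting

end CfsgLib.Walter
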