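import Cfsg.Agent.Lib.GWKlein.Statement
import Cfsg.Prelude.Def_TwoFusion

/-!
# Simple groups with an elementary abelian Sylow 2-subgroup of order 8: statements and interfaces

`EightSimple` is the theorem: such a group is `PSL(2,8)` or every centraliser of an involution is
the direct product of the involution with some `PSL(2,q)`.  The other definitions are the
interfaces of the proof: balance, the covering subgroups, the completion of the functor
`a ↦ oddPart a`.  The paper proof is in `tools/NOTES_WALTER.md`.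
-/

set_option autoImplicit false
set_option linter.unusedSectionVars false

universe u

namespace CfsgLib.Walter

open Subgroup
open CfsgLib.GWKlein (core oddPart)

/-- `PSL(2,8)`. -/
def IsLTwoEight (G : Type u) [Group G] : Prop :=
  ∃ (F : Type) (_ : Field F) (_ : Fintype F), Fintype.card F = 8 ∧
    Nonempty (G ≃* Matrix.ProjectiveSpecialLinearGroup (Fin 2) F)

/-- Every centraliser of an involution is `⟨t⟩ × PSL(2,q)`, `3 < q`, `q ≡ 3, 5 (mod 8)`. -/
def HasReeCentralizers (G : Type u) [Group G] : Prop :=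
  ∀ t : G, orderOf t = 2 → ∃ (K : Subgroup G) (F : Type) (_ : Field F) (_ : Fintype F),
    Odd (Fintype.card F) ∧ 3 < Fintype.card F ∧
      (Fintype.card F % 8 = 3 ∨ Fintype.card F % 8 = 5) ∧
      Cfsg.IsInternalDirectProduct (zpowers t) K (centralizer ({t} : Set G)) ∧
      Nonempty (↥K ≃* Matrix.ProjectiveSpecialLinearGroup (Fin 2) F)

/-- What is proved about a simple group with elementary abelian Sylow 2-subgroups of order 8. -/
def Target (G : Type u) [Group G] : Prop := IsLTwoEight G ∨ HasReeCentralizers G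

/-- The theorem. -/
def EightSimple : Prop :=
  ∀ (G : Type u) [Group G] [Finite G] [IsSimpleGroup G], ¬ IsMulCommutative G →
    ∀ P : Sylow 2 G, Nat.card (P : Subgroup G) = 8 →
      Cfsg.IsElementaryAbelian 2 (P : Subgroup G) → Target G

variable {G : Type u} [Group G]

/-- An elementary abelian Sylow 2-subgroup of order 8, one class of involutions. -/
structure Setting (G : Type u) [Group G] (S : Subgroup G) : Prop where
  sylow : ∃ P : Sylow 2 G, (P : Subgroup G) = S
  card : Nat.card S = 8
  elem : Cfsg.IsElementaryAbelian 2 S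
  oneClass : ∀ u v : G, orderOf u = 2 → orderOf v = 2 → ∃ g : G, g * u * g⁻¹ = v

/-- A simple group all of whose smaller relatives are known. -/
structure Minimal (G : Type u) [Group G] (S : Subgroup G) : Prop where
  setting : Setting G S
  simple : IsSimpleGroup G
  noncomm : ¬ IsMulCommutative G
  small : ∀ (X : Type u) [Group X] [Finite X] [IsSimpleGroup X], Nat.card X < Nat.card G →
    ¬ IsMulCommutative X → ∀ P : Sylow 2 X, Nat.card (P : Subgroup X) = 8 →
      Cfsg.IsElementaryAbelian 2 (P : Subgroup X) → Target X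

/-- `H` induces the whole of `C(t)/O(C(t))`. -/
def Covers (t : G) (H : Subgroup G) : Prop :=
  centralizer ({t} : Set G) ≤ oddPart t ⊔ (H ⊓ centralizer ({t} : Set G))

/-- The involutions of `H` form one class of `H`. -/
def OneClassIn (H : Subgroup G) : Prop :=
  ∀ u ∈ H, ∀ v ∈ H, orderOf u = 2 → orderOf v = 2 → ∃ h ∈ H, h * u * h⁻¹ = v

/-- `t` is central in `H` modulo the core of `H`. -/
def CentralMod (t : G) (H : Subgroup G) : Prop :=
  H ≤ core H ⊔ (H ⊓ centralizer ({t} : Set G))

/-- A proper subgroup containing `t` that covers `C(t)/O(C(t))` falls in one of two kinds. -/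
def DichotomyHyp (S : Subgroup G) : Prop :=
  ∀ t ∈ S, t ≠ 1 → ∀ H : Subgroup G, H ≠ ⊤ → t ∈ H → Covers t H →
    OneClassIn H ∨ CentralMod t H

/-- In a proper covering subgroup with one class, `O(C(t))` falls into the core. -/
def SocleHyp (S : Subgroup G) : Prop :=
  ∀ t ∈ S, t ≠ 1 → ∀ H : Subgroup G, H ≠ ⊤ → S ≤ H → Covers t H → OneClassIn H →
    oddPart t ⊓ H ≤ core H

/-- `R` is an invariant Sylow `p`-subgroup of `O(C(t))`. -/
structure PartSylow (S : Subgroup G) (p : ℕ) (t : G) (R : Subgroup G) : Prop where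
  le : R ≤ oddPart t
  pgroup : IsPGroup p ↥R
  full : ¬ p ∣ R.relIndex (oddPart t)
  inv : S ≤ normalizer (R : Set G)

/-- `R` is centralised by `S` and by an element of `C(t)` rotating `S`. -/
def CentralPart (S : Subgroup G) (t : G) (R : Subgroup G) : Prop :=
  S ≤ centralizer (R : Set G) ∧ ∃ g : G, Commute t g ∧ g ∈ centralizer (R : Set G) ∧
    g ∈ normalizer (S : Set G) ∧ g ∉ centralizer (S : Set G) ∧ ∃ n : ℕ, orderOf g = 3 ^ n

/-- The first outcome of the climb: a proper subgroup with one class containing `S` and a full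
`p`-part of `O(C(t))`. -/
def OneClassLocal (S : Subgroup G) (p : ℕ) (t : G) : Prop :=
  ∃ H : Subgroup G, H ≠ ⊤ ∧ S ≤ H ∧ Covers t H ∧ OneClassIn H ∧
    ∃ R : Subgroup G, R ≤ H ∧ PartSylow S p t R

/-- The second outcome of the climb, starting from `R`: an invariant `p`-subgroup `D` above `R`
that is maximal among those with covering normalisers, and a Sylow `p`-subgroup `P` of `G` above `D`
with covering normaliser of `Z(J(P))`, in which `t` is central modulo the core. -/
structure ClimbData (S : Subgroup G) (p : ℕ) (t : G) (R D : Subgroup G) (P : Subgroup G) :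
    Prop where
  part : PartSylow S p t R
  le : R ≤ D
  inv : S ≤ normalizer (D : Set G)
  fixed : D ⊓ centralizer ({t} : Set G) = R
  outside : ∀ Y : Subgroup G, IsPGroup p ↥Y → S ≤ normalizer (Y : Set G) → D ≤ Y →
    Y ≤ normalizer (D : Set G) → Y ⊓ centralizer ({t} : Set G) ≤ D → Y ≤ D
  covers : Covers t (normalizer (D : Set G))
  sylow : ∃ Q : Sylow p G, (Q : Subgroup G) = P
  le_sylow : D ≤ P
  full : ¬ p ∣ (P ⊓ centralizer ({t} : Set G)).relIndex (centralizer ({t} : Set G))
  mem : t ∈ normalizer (Cfsg.centerThompsonOf p P : Set G)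
  central : CentralMod t (normalizer (Cfsg.centerThompsonOf p P : Set G))

/-- The climb: `C(t)` is not solvable and `R` is not central. -/
def ClimbHyp (S : Subgroup G) : Prop :=
  ∀ p : ℕ, p.Prime → p ≠ 2 → ∀ t ∈ S, t ≠ 1 →
    ¬ Group.IsSolvable ↥(centralizer ({t} : Set G)) → ∀ R, PartSylow S p t R →
      R ≠ ⊥ → ¬ CentralPart S t R →
      OneClassLocal S p t ∨ ∃ D P, ClimbData S p t R D P

/-- Balance at one prime. -/
def BalanceAt (S : Subgroup G) (p : ℕ) (t : G) : Prop :=
  ∃ R, PartSylow S p t R ∧ ∀ u ∈ S, u ≠ 1 → R ⊓ centralizer ({u} : Set G) ≤ oddPart u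

/-- `a ↦ oddPart a` is balanced on `S`. -/
def Balanced (S : Subgroup G) : Prop :=
  ∀ a ∈ S, a ≠ 1 → ∀ b ∈ S, b ≠ 1 → oddPart a ⊓ centralizer ({b} : Set G) ≤ oddPart b

/-- The completion of `a ↦ oddPart a`. -/
structure Completion (S W : Subgroup G) : Prop where
  odd : Odd (Nat.card W)
  inv : S ≤ normalizer (W : Set G)
  fixed : ∀ a ∈ S, a ≠ 1 → W ⊓ centralizer ({a} : Set G) = oddPart a

/-- A Sylow `p`-subgroup of the completion whose normaliser covers `C(t)/O(C(t))`. -/
def CoverAt (W : Subgroup G) (p : ℕ) (t : G) : Prop :=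
  ∃ Q : Subgroup G, Q ≤ W ∧ IsPGroup p ↥Q ∧ ¬ p ∣ Q.relIndex W ∧
    Covers t (normalizer (Q : Set G))

/-- The covering for all completions. -/
def CoverHyp (S : Subgroup G) : Prop :=
  ∀ W : Subgroup G, Completion S W → ∀ p : ℕ, p.Prime → p ≠ 2 → ∀ t ∈ S, t ≠ 1 → CoverAt W p t

/-- The conclusion of the balanced part: all the odd parts are trivial, or `PSL(2,8)`. -/
def CoresHyp (S : Subgroup G) : Prop :=
  IsLTwoEight G ∨ ∀ t ∈ S, t ≠ 1 → oddPart t = ⊥

end CfsgLib.Walter
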